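import Cfsg.Agent.Sporadic.LeechWord
import Cfsg.Agent.M24Geo.Orbit

/-! Certificates for the 275 minimal vectors of a triangle of type 2-2-3. -/

set_option autoImplicit false
set_option linter.style.longLine false

namespace Cfsg.Agent.LeechMcL

open Cfsg.Agent.LeechWord
open Cfsg.Agent.M24Geo (OT)

/-- Octad of the target of `wordTriB`. -/
def triB : ℕ := 2165775

/-- From `(4, 4, 0²²)` to an octad vector, fixing `(5, 1²³)`. -/
def wordTriB : List St := [
    .perm [0, 22, 18, 4, 21, 15, 16, 12, 1, 10, 2, 5, 6, 13, 11, 3, 8, 9, 20, 17, 19, 14, 7, 23],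
    .xi,
    .perm [8, 3, 1, 2, 21, 14, 12, 13, 4, 16, 20, 22, 23, 19, 9, 6, 0, 10, 17, 15, 11, 7, 5, 18],
    .xi]

/-- Octad of the target of `wordTriC`. -/
def triC : ℕ := 102049

/-- From `(4, 4, 0²²)` to an odd vector with a positive 3. -/
def wordTriC : List St := [
    .perm [0, 4, 16, 18, 15, 11, 14, 12, 10, 22, 23, 6, 20, 21, 5, 13, 19, 17, 7, 3, 2, 8, 9, 1],
    .xi,
    .perm [8, 3, 1, 2, 22, 17, 7, 14, 10, 5, 19, 15, 4, 13, 6, 0, 16, 12, 20, 11, 18, 23, 9, 21],
    .xi]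

/-- Point of the target of `wordTriD`. -/
def triD : ℕ := 4

/-- From `(4, 4, 0²²)` to an odd vector with a negative 3. -/
def wordTriD : List St := [
    .perm [0, 20, 8, 11, 5, 21, 10, 17, 18, 6, 16, 4, 9, 23, 3, 14, 2, 12, 1, 7, 22, 15, 19, 13],
    .xi,
    .perm [18, 2, 3, 1, 10, 15, 9, 11, 17, 12, 21, 13, 16, 22, 6, 14, 23, 4, 8, 5, 7, 20, 19, 0],
    .xi,
    .perm [0, 8, 16, 10, 4, 18, 13, 12, 17, 3, 7, 14, 19, 20, 1, 21, 2, 22, 5, 9, 6, 23, 11, 15],
    .xi,
    .perm [18, 2, 3, 1, 10, 15, 9, 11, 17, 12, 21, 13, 16, 22, 6, 14, 23, 4, 8, 5, 7, 20, 19, 0],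
    .xi]

/-- Octad of the target of `wordPtB`. -/
def ptB : ℕ := 295007

/-- From `(4, 0, 4, 0²¹)` to an octad vector, fixing the triangle. -/
def wordPtB : List St := [
    .perm [0, 8, 12, 1, 15, 11, 6, 4, 16, 17, 9, 21, 22, 5, 18, 20, 10, 23, 19, 13, 14, 7, 3, 2],
    .xi,
    .perm [23, 3, 1, 2, 17, 19, 14, 20, 18, 6, 4, 7, 9, 11, 15, 5, 12, 8, 0, 22, 21, 10, 13, 16],
    .xi]

/-- Octad of the target of `wordPtC`. -/
def ptC : ℕ := 51025

/-- From `(4, 0, 4, 0²¹)` to an odd vector, fixing the triangle. -/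
def wordPtC : List St := [
    .perm [0, 19, 1, 5, 15, 14, 2, 9, 20, 16, 8, 21, 10, 23, 4, 11, 18, 6, 22, 12, 7, 3, 17, 13],
    .xi,
    .perm [7, 2, 3, 1, 13, 10, 16, 9, 15, 18, 0, 22, 19, 17, 4, 14, 20, 23, 6, 11, 21, 8, 5, 12],
    .xi]

/-- Source of `mixX`. -/
def srcX : ℕ := 48147

/-- Target of `mixX`. -/
def tgtX : ℕ := 6299757

/-- A word fixing the triangle and its point, joining two classes. -/
def mixX : List St := [
    .xi,
    .perm [6, 1, 2, 3, 23, 16, 9, 12, 8, 5, 4, 15, 10, 19, 13, 22, 0, 14, 11, 20, 17, 18, 21, 7],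
    .xi]

/-- Source of `mixY`. -/
def srcY : ℕ := 6

/-- Target of `mixY`. -/
def tgtY : ℕ := 2165775

/-- A word fixing the triangle and its point, joining two classes. -/
def mixY : List St := [
    .xi,
    .perm [6, 1, 2, 3, 23, 16, 9, 12, 8, 5, 4, 15, 10, 19, 13, 22, 0, 14, 11, 20, 17, 18, 21, 7],
    .xi]

/-- Source of `mixZ`. -/
def srcZ : ℕ := 5

/-- Target of `mixZ`. -/
def tgtZ : ℕ := 1781777

/-- A word fixing the triangle and its point, joining two classes. -/
def mixZ : List St := [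
    .xi,
    .perm [6, 1, 2, 3, 23, 16, 9, 12, 8, 5, 4, 15, 10, 19, 13, 22, 0, 14, 11, 20, 17, 18, 21, 7],
    .xi]

/-- Generators for `three`. -/
def threeGens : List (List ℕ) :=
  [[0, 1, 2, 4, 16, 11, 22, 8, 19, 5, 18, 6, 21, 12, 9, 13, 15, 14, 23, 20, 10, 3, 17, 7],
    [0, 1, 2, 6, 8, 17, 16, 22, 12, 7, 18, 3, 19, 21, 20, 5, 15, 11, 9, 23, 10, 4, 14, 13]]

/-- Orbit representatives for `three`. -/
def threeRoots : List ℕ := [6379, 12757, 19095, 25513]

set_option maxRecDepth 20000 in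
/-- Orbit certificate `three`. -/
def threeTree : OT :=
  (.node (.node (.node (.node (.node (.node (.node (.node .leaf 6379 0 0 0 .leaf) 12757 0 0 0 (.node .leaf 19095 0 0 0 .leaf)) 25513 0 0 0 (.node (.node .leaf 38189 0 3220101 4 .leaf) 48147 0 1155115 4 (.node .leaf 51025 0 1263753 8 .leaf))) 66407 0 19095 1 (.node (.node (.node .leaf 76377 0 2148409 7 .leaf) 86299 1 6293843 2 (.node .leaf 96293 1 12747077 6 .leaf)) 102049 1 1540673 4 (.node (.node .leaf 132813 0 15747077 7 .leaf) 152753 1 7373601 6 (.node .leaf 166667 0 6373539 5 .leaf)))) 172597 1 10846245 6 (.node (.node (.node (.node .leaf 192585 0 6531073 8 .leaf) 204097 0 5253297 8 (.node .leaf 222723 0 5423123 3 .leaf)) 233607 1 66407 2 (.node (.node .leaf 265625 1 3280401 7 .leaf) 271527 0 9471495 5 (.node .leaf 295007 0 2165775 5 .leaf))) 305505 1 8619033 4 (.node (.node (.node .leaf 315939 0 222723 4 .leaf) 333333 0 1074205 4 (.node .leaf 345193 1 5278793 4 .leaf)) 385169 0 8619033 4 (.node (.node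 .leaf 408193 0 12641313 5 .leaf) 410051 1 4195899 6 (.node .leaf 445445 0 5440549 8 .leaf))))) 460851 1 2262115 5 (.node (.node (.node (.node (.node .leaf 467213 1 8391797 4 .leaf) 531249 0 25513 1 (.node .leaf 537103 0 2154759 4 .leaf)) 543053 0 2230693 8 (.node (.node .leaf 548979 0 166667 6 .leaf) 574603 0 11731203 8 (.node .leaf 590013 1 2136645 6 .leaf))) 600451 0 8421811 5 (.node (.node (.node .leaf 611009 0 8546577 7 .leaf) 631877 1 9506893 7 (.node .leaf 656663 0 5243279 2 .leaf)) 666665 0 7373601 6 (.node (.node .leaf 690385 1 2298409 6 .leaf) 770337 1 4296817 9 (.node .leaf 790083 0 1068323 4 .leaf)))) 816385 1 13636881 5 (.node (.node (.node (.node .leaf 820101 1 333333 5 .leaf) 890889 0 2172209 7 (.node .leaf 921701 1 38189 5 .leaf)) 934425 0 6440201 3 (.node (.node .leaf 1062497 1 9748745 4 .leaf) 1068323 1 5423123 3 (.node .leaf 1074205 0 3833869 3 .leaf))) 1086105 0 11100169 5 (.node (.node (.node .leaf 1097957 1 4309517 6 .leaf) 1115347 1 3162699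 7 (.node .leaf 1149205 0 590013 7 .leaf)) 1155115 1 8505411 3 (.node (.node .leaf 1180025 1 2148409 7 .leaf) 1189959 0 4753447 3 (.node .leaf 1200901 1 4473141 6 .leaf)))))) 1222017 1 9519665 5 (.node (.node (.node (.node (.node (.node .leaf 1263753 1 4344417 7 .leaf) 1313325 0 2639397 8 (.node .leaf 1319699 1 10765331 6 .leaf)) 1333329 1 6440201 3 (.node (.node .leaf 1380769 0 8922769 5 .leaf) 1446923 1 1068323 4 (.node .leaf 1540673 0 4803601 3 .leaf))) 1580165 0 9969957 4 (.node (.node (.node .leaf 1610051 1 86299 3 .leaf) 1632769 1 13062145 6 (.node .leaf 1640201 0 3686801 4 .leaf)) 1704611 1 315939 5 (.node (.node .leaf 1781777 1 10506593 7 .leaf) 1843401 1 8412681 7 (.node .leaf 1868849 0 1640201 5 .leaf)))) 1916935 0 656663 3 (.node (.node (.node (.node .leaf 2103171 1 1319699 7 .leaf) 2124993 0 9607201 8 (.node .leaf 2136645 1 467213 5 .leaf)) 2148409 0 2298409 6 (.node (.node .leaf 2154759 0 233607 3 .leaf) 2165775 1 1189959 4 (.node .leaf 2172209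 0 1086105 6 .leaf))) 2195913 1 76377 8 (.node (.node (.node .leaf 2230693 1 172597 7 .leaf) 2236571 1 10496547 6 (.node .leaf 2262115 1 1155115 4 .leaf)) 2298409 1 305505 5 (.node (.node .leaf 2310229 1 6299757 7 .leaf) 2360049 0 8412681 7 (.node .leaf 2379917 0 10630149 5 .leaf))))) 2401801 1 9776129 7 (.node (.node (.node (.node (.node .leaf 2437187 0 48147 5 .leaf) 2444033 1 4596817 5 (.node .leaf 2527505 0 4273289 6 .leaf)) 2626649 0 3160329 8 (.node (.node .leaf 2639397 0 1200901 7 .leaf) 2666657 0 8499969 6 (.node .leaf 2720275 0 86299 3 .leaf))) 2761537 0 4249985 8 (.node (.node (.node .leaf 2775043 0 4337955 5 .leaf) 2883883 1 48147 5 (.node .leaf 2893845 0 38189 5 .leaf)) 3081345 0 13636881 5 (.node (.node .leaf 3149879 1 2154759 4 .leaf) 3160329 0 2666657 7 (.node .leaf 3162699 0 2775043 6 .leaf)))) 3220101 0 8966165 3 (.node (.node (.node (.node .leaf 3265537 1 5333313 8 .leaf) 3280401 1 3563553 6 (.node .leaf 3409221 1 1074205 4 .leaf)) 3442819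 1 222723 4 (.node (.node .leaf 3563553 1 12641313 5 .leaf) 3686801 0 9048457 3 (.node .leaf 3737697 0 531249 2 .leaf))) 3833869 0 6885637 2 (.node (.node (.node .leaf 4195899 1 3442819 5 .leaf) 4206341 1 9830549 7 (.node .leaf 4215879 1 5243279 2 .leaf)) 4235971 0 8505411 3 (.node (.node .leaf 4249985 0 8593633 7 .leaf) 4273289 1 9440193 5 .leaf)))))) 4296817 0 76377 8 (.node (.node (.node (.node (.node (.node (.node .leaf 4309517 1 4524229 5 .leaf) 4331549 0 6299757 7 (.node .leaf 4337955 0 4235971 4 .leaf)) 4344417 1 4620457 6 (.node (.node .leaf 4391825 0 12599513 8 .leaf) 4461385 1 265625 8 (.node .leaf 4473141 1 6325397 5 .leaf))) 4483083 0 2262115 5 (.node (.node (.node .leaf 4524229 0 8391797 4 .leaf) 4556035 0 1115347 8 (.node .leaf 4596817 0 5278793 4 .leaf)) 4620457 0 14747201 5 (.node (.node .leaf 4720097 0 9440193 5 .leaf) 4753447 0 66407 2 (.node .leaf 4759833 0 2195913 9 .leaf)))) 4803601 1 7475393 2 (.node (.node (.node (.node .leaf 4874373 0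 12747077 6 .leaf) 4888065 1 1380769 6 (.node .leaf 4915275 1 6379 1 .leaf)) 4984979 0 8398155 6 (.node (.node .leaf 5055009 1 8688833 6 .leaf) 5243279 1 19095 1 (.node .leaf 5253297 1 10666625 7 .leaf))) 5278793 0 3737697 3 (.node (.node (.node .leaf 5315075 1 410051 7 .leaf) 5333313 0 690385 7 (.node .leaf 5423123 0 4915275 2 .leaf)) 5440549 1 1097957 7 (.node (.node .leaf 5523073 0 10110017 8 .leaf) 5550085 1 8471941 8 (.node .leaf 5767765 1 2379917 6 .leaf))))) 5787689 1 4249985 8 (.node (.node (.node (.node (.node .leaf 6162689 0 4720097 6 .leaf) 6293843 0 6379 1 (.node .leaf 6299757 0 2136645 6 .leaf)) 6320657 1 14950785 6 (.node (.node .leaf 6325397 1 3220101 4 .leaf) 6373539 1 4235971 4 (.node .leaf 6440201 0 7475393 2 .leaf))) 6531073 1 8593633 7 (.node (.node (.node .leaf 6560801 0 1062497 5 .leaf) 6685191 0 4215879 3 (.node .leaf 6818441 1 408193 6 .leaf)) 6885637 0 12757 1 (.node (.node .leaf 7127105 1 4273289 6 .leaf) 7373601 1 385169 5 (.node .leaf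 7475393 1 25513 1 .leaf)))) 7667737 0 2626649 9 (.node (.node (.node (.node .leaf 7873539 0 1610051 4 .leaf) 8391797 1 3833869 3 (.node .leaf 8398155 0 3442819 5 .leaf)) 8412681 0 3563553 6 (.node (.node .leaf 8421811 1 2720275 4 .leaf) 8431757 0 10846245 6 (.node .leaf 8471941 0 9830549 7 .leaf))) 8499969 0 385169 5 (.node (.node (.node .leaf 8505411 1 4915275 2 .leaf) 8524371 1 2883883 6 (.node .leaf 8536111 1 4753447 3 .leaf)) 8546577 0 4620457 6 (.node (.node .leaf 8593633 0 12880401 6 .leaf) 8619033 1 3737697 3 (.node .leaf 8657159 1 656663 3 .leaf)))))) 8663097 1 11046145 7 (.node (.node (.node (.node (.node (.node .leaf 8675909 1 13370381 6 .leaf) 8688833 1 1640201 5 (.node .leaf 8716939 1 790083 5 .leaf)) 8783649 1 1868849 6 (.node (.node .leaf 8922769 0 9748745 4 .leaf) 8946281 0 2444033 6 (.node .leaf 8966165 1 6885637 2 .leaf))) 8983587 1 1610051 4 (.node (.node (.node .leaf 9048457 1 531249 2 .leaf) 9112069 1 921701 6 (.node .leaf 9193633 0 8783649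 7 .leaf)) 9240913 0 265625 8 (.node (.node .leaf 9347075 1 8983587 5 .leaf) 9440193 1 934425 4 (.node .leaf 9465987 0 9347075 6 .leaf)))) 9471495 0 1916935 4 (.node (.node (.node (.node .leaf 9506893 0 2893845 6 .leaf) 9519665 0 934425 4 (.node .leaf 9607201 0 5055009 7 .leaf)) 9748745 1 4803601 3 (.node (.node .leaf 9776129 0 1868849 6 .leaf) 9830549 0 13370381 6 (.node .leaf 9963547 1 2775043 6 .leaf))) 9969957 1 8966165 3 (.node (.node (.node .leaf 10110017 0 6162689 7 .leaf) 10486557 1 2893845 6 (.node .leaf 10496547 0 315939 5 .leaf)) 10506593 0 408193 6 (.node (.node .leaf 10557585 0 8663097 8 .leaf) 10630149 1 9969957 4 (.node .leaf 10666625 0 13062145 6 .leaf))))) 10765331 1 7873539 5 (.node (.node (.node (.node (.node .leaf 10846245 0 333333 5 .leaf) 10881097 0 6560801 6 (.node .leaf 11010247 0 8657159 4 .leaf)) 11046145 0 1380769 6 (.node (.node .leaf 11100169 1 13121601 4 .leaf) 11535529 1 1632769 7 (.node .leaf 11575377 1 11100169 5 .leaf))) 11731203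 0 4984979 7 (.node (.node (.node .leaf 12325377 0 816385 6 .leaf) 12587685 1 820101 6 (.node .leaf 12599513 1 6818441 7 .leaf)) 12641313 0 1540673 4 (.node (.node .leaf 12650793 1 690385 7 .leaf) 12656663 1 11010247 5 (.node .leaf 12717187 1 1704611 6 .leaf)))) 12747077 0 4524229 5 (.node (.node (.node (.node .leaf 12880401 0 345193 5 .leaf) 13062145 0 4596817 5 (.node .leaf 13121601 1 9048457 3 .leaf)) 13124355 1 4984979 7 (.node (.node .leaf 13370381 0 3409221 5 .leaf) 13636881 1 3686801 4 (.node .leaf 13771273 0 7127105 7 .leaf))) 13893731 0 790083 5 (.node (.node (.node .leaf 14254209 1 611009 8 .leaf) 14716939 1 600451 6 (.node .leaf 14747201 0 1333329 4 .leaf)) 14950785 1 8922769 5 (.node (.node .leaf 15335473 1 2666657 7 .leaf) 15747077 0 921701 6 .leaf)))))))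

end Cfsg.Agent.LeechMcL
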