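import Cfsg.Agent.Sporadic.LeechWord

/-! Certificates for the automorphisms fixing `(5, 1²³)` used to move minimal vectors. -/

set_option autoImplicit false
set_option linter.style.longLine false

namespace Cfsg.Agent.LeechPair

open Cfsg.Agent.LeechWord

/-- Octad avoiding the special point. -/
def oct2 : ℕ := 4294810
/-- Octad through the special point. -/
def oct3 : ℕ := 6379
/-- A point of `oct3`. -/
def posP : ℕ := 6
/-- Another point of `oct3`. -/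
def posQ : ℕ := 7
/-- Dodecad through the special point. -/
def dod4 : ℕ := 14207345
/-- Octad avoiding the special point. -/
def oct5 : ℕ := 6703248
/-- A point of `oct5`. -/
def pos5 : ℕ := 22

/-- The target of word 2. -/
def rep2 : List ℤ := [0, 2, 0, 2, 2, 0, 0, 2, 0, 0, 0, 2, 0, 0, 0, 2, 2, 0, 0, 0, 0, 0, 2, 0]

/-- A word fixing `(5, 1²³)` that reaches `rep2`. -/
def word2 : List St := [
    .xi,
    .perm [9, 1, 3, 2, 21, 16, 5, 6, 11, 14, 12, 0, 8, 10, 20, 7, 19, 4, 15, 18, 22, 13, 23, 17],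
    .xi,
    .perm [0, 20, 8, 11, 5, 21, 10, 17, 18, 6, 16, 4, 9, 23, 3, 14, 2, 12, 1, 7, 22, 15, 19, 13],
    .xi,
    .perm [18, 2, 3, 1, 10, 15, 9, 11, 17, 12, 21, 13, 16, 22, 6, 14, 23, 4, 8, 5, 7, 20, 19, 0],
    .xi,
    .xi,
    .perm [9, 1, 3, 2, 21, 16, 5, 6, 11, 14, 12, 0, 8, 10, 20, 7, 19, 4, 15, 18, 22, 13, 23, 17],
    .xi,
    .xi,
    .perm [9, 1, 3, 2, 21, 16, 5, 6, 11, 14, 12, 0, 8, 10, 20, 7, 19, 4, 15, 18, 22, 13, 23, 17],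
    .xi]

/-- The target of word 3. -/
def rep3 : List ℤ := [2, 2, 0, 2, 0, 2, -2, -2, 0, 0, 0, 2, 2, 0, 0, 0, 0, 0, 0, 0, 0, 0, 0, 0]

/-- A word fixing `(5, 1²³)` that reaches `rep3`. -/
def word3 : List St := [
    .perm [0, 4, 16, 18, 15, 11, 14, 12, 10, 22, 23, 6, 20, 21, 5, 13, 19, 17, 7, 3, 2, 8, 9, 1],
    .xi,
    .perm [18, 2, 3, 1, 10, 15, 9, 11, 17, 12, 21, 13, 16, 22, 6, 14, 23, 4, 8, 5, 7, 20, 19, 0],
    .xi,
    .xi,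
    .perm [9, 1, 3, 2, 21, 16, 5, 6, 11, 14, 12, 0, 8, 10, 20, 7, 19, 4, 15, 18, 22, 13, 23, 17],
    .xi,
    .perm [0, 20, 8, 11, 5, 21, 10, 17, 18, 6, 16, 4, 9, 23, 3, 14, 2, 12, 1, 7, 22, 15, 19, 13],
    .xi,
    .perm [18, 2, 3, 1, 10, 15, 9, 11, 17, 12, 21, 13, 16, 22, 6, 14, 23, 4, 8, 5, 7, 20, 19, 0],
    .xi]

/-- The target of word 4. -/
def rep4 : List ℤ := [3, 1, 1, 1, -1, -1, -1, 1, -1, 1, 1, -1, 1, 1, -1, -1, 1, 1, 1, -1, -1, 1, -1, -1]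

/-- A word fixing `(5, 1²³)` that reaches `rep4`. -/
def word4 : List St := [
    .perm [0, 20, 8, 11, 5, 21, 10, 17, 18, 6, 16, 4, 9, 23, 3, 14, 2, 12, 1, 7, 22, 15, 19, 13],
    .xi,
    .perm [9, 1, 3, 2, 21, 16, 5, 6, 11, 14, 12, 0, 8, 10, 20, 7, 19, 4, 15, 18, 22, 13, 23, 17],
    .xi]

/-- The target of word 5. -/
def rep5 : List ℤ := [1, 1, 1, 1, -1, 1, 1, -1, 1, 1, 1, -1, 1, 1, -1, 1, 1, -1, -1, 1, 1, -1, 3, 1]

/-- A word fixing `(5, 1²³)` that reaches `rep5`. -/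
def word5 : List St := [
    .xi,
    .perm [18, 2, 3, 1, 10, 15, 9, 11, 17, 12, 21, 13, 16, 22, 6, 14, 23, 4, 8, 5, 7, 20, 19, 0],
    .xi,
    .perm [0, 20, 8, 11, 5, 21, 10, 17, 18, 6, 16, 4, 9, 23, 3, 14, 2, 12, 1, 7, 22, 15, 19, 13],
    .xi,
    .perm [9, 1, 3, 2, 21, 16, 5, 6, 11, 14, 12, 0, 8, 10, 20, 7, 19, 4, 15, 18, 22, 13, 23, 17],
    .xi]

end Cfsg.Agent.LeechPair
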