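import Cfsg.Agent.Sporadic.LeechWord

/-! Certificates for the point stabiliser on the 275 vectors as a unitary group. -/

set_option autoImplicit false
set_option linter.style.longLine false

namespace Cfsg.Agent.McLUnitary

open Cfsg.Agent.LeechWord

set_option maxRecDepth 20000 in
/-- The 112 vectors with inner product 8 with the base point. -/
def nearData : List (List ℤ) :=
  [
    [2, 2, 0, 0, 0, 0, 0, 0, 0, 0, 0, 0, 0, 2, 0, 2, 0, 2, 2, 2, 0, 0, 0, 2],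
    [2, 2, 0, 0, 0, 0, 0, 0, 0, 0, 0, 2, 2, 0, 2, 0, 0, 2, 0, 2, 0, 2, 0, 0],
    [2, 2, 0, 0, 0, 0, 0, 0, 0, 0, 2, 0, 0, 2, 0, 0, 0, 0, 0, 2, 2, 2, 2, 0],
    [2, 2, 0, 0, 0, 0, 0, 0, 0, 2, 0, 2, 2, 0, 0, 0, 2, 0, 0, 0, 2, 0, 2, 0],
    [2, 2, 0, 0, 0, 0, 0, 0, 0, 2, 2, 0, 0, 2, 2, 0, 2, 2, 0, 0, 0, 0, 0, 0],
    [2, 2, 0, 0, 0, 0, 0, 0, 2, 0, 0, 0, 0, 0, 0, 0, 2, 2, 0, 0, 2, 2, 0, 2],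
    [2, 2, 0, 0, 0, 0, 0, 0, 2, 0, 2, 0, 0, 0, 0, 2, 2, 0, 2, 0, 0, 0, 2, 0],
    [2, 2, 0, 0, 0, 0, 0, 0, 2, 2, 0, 0, 0, 0, 2, 0, 0, 0, 0, 2, 0, 0, 2, 2],
    [2, 2, 0, 0, 0, 0, 0, 2, 0, 0, 0, 0, 2, 2, 2, 0, 0, 0, 0, 0, 2, 0, 0, 2],
    [2, 2, 0, 0, 0, 0, 0, 2, 0, 0, 0, 2, 0, 0, 0, 2, 0, 0, 2, 0, 2, 2, 0, 0],
    [2, 2, 0, 0, 0, 0, 0, 2, 0, 0, 2, 2, 0, 0, 0, 0, 0, 2, 0, 0, 0, 0, 2, 2],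
    [2, 2, 0, 0, 0, 0, 0, 2, 2, 0, 0, 2, 0, 2, 0, 0, 2, 0, 0, 2, 0, 0, 0, 0],
    [2, 2, 0, 0, 0, 0, 0, 2, 2, 2, 2, 0, 2, 0, 0, 0, 0, 0, 0, 0, 0, 2, 0, 0],
    [2, 2, 0, 0, 0, 0, 2, 0, 0, 0, 0, 0, 2, 2, 0, 0, 2, 0, 2, 0, 0, 2, 0, 0],
    [2, 2, 0, 0, 0, 0, 2, 0, 0, 0, 0, 2, 0, 0, 2, 2, 2, 0, 0, 0, 0, 0, 0, 2],
    [2, 2, 0, 0, 0, 0, 2, 0, 0, 2, 2, 2, 0, 0, 0, 0, 0, 0, 2, 2, 0, 0, 0, 0],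
    [2, 2, 0, 0, 0, 0, 2, 0, 2, 0, 0, 0, 2, 0, 0, 2, 0, 0, 0, 2, 2, 0, 0, 0],
    [2, 2, 0, 0, 0, 0, 2, 2, 0, 2, 0, 0, 0, 2, 0, 2, 0, 0, 0, 0, 0, 0, 2, 0],
    [2, 2, 0, 0, 0, 0, 2, 2, 2, 0, 0, 0, 0, 0, 2, 0, 0, 2, 2, 0, 0, 0, 0, 0],
    [2, 2, 0, 0, 0, 2, 0, 0, 0, 0, 2, 0, 2, 0, 0, 0, 2, 0, 0, 2, 0, 0, 0, 2],
    [2, 2, 0, 0, 0, 2, 0, 0, 0, 2, 0, 0, 2, 0, 2, 2, 0, 0, 2, 0, 0, 0, 0, 0],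
    [2, 2, 0, 0, 0, 2, 0, 0, 0, 2, 0, 2, 0, 2, 0, 0, 0, 0, 0, 0, 0, 2, 0, 2],
    [2, 2, 0, 0, 0, 2, 0, 0, 2, 0, 0, 0, 2, 2, 0, 0, 0, 2, 0, 0, 0, 0, 2, 0],
    [2, 2, 0, 0, 0, 2, 0, 0, 2, 0, 2, 2, 0, 0, 2, 0, 0, 0, 0, 0, 2, 0, 0, 0],
    [2, 2, 0, 0, 0, 2, 0, 2, 0, 0, 0, 0, 0, 0, 2, 0, 2, 0, 0, 0, 0, 2, 2, 0],
    [2, 2, 0, 0, 0, 2, 0, 2, 0, 2, 0, 0, 0, 0, 0, 0, 0, 2, 0, 2, 2, 0, 0, 0],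
    [2, 2, 0, 0, 0, 2, 2, 0, 0, 0, 0, 0, 0, 0, 0, 0, 0, 0, 2, 0, 2, 0, 2, 2],
    [2, 2, 0, 0, 0, 2, 2, 0, 0, 0, 2, 0, 0, 0, 0, 2, 0, 2, 0, 0, 0, 2, 0, 0],
    [2, 2, 0, 0, 2, 0, 0, 0, 0, 0, 0, 0, 0, 0, 2, 2, 0, 2, 0, 0, 2, 0, 2, 0],
    [2, 2, 0, 0, 2, 0, 0, 0, 0, 0, 2, 0, 0, 0, 2, 0, 0, 0, 2, 0, 0, 2, 0, 2],
    [2, 2, 0, 0, 2, 0, 0, 0, 0, 0, 2, 2, 2, 2, 0, 2, 0, 0, 0, 0, 0, 0, 0, 0],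
    [2, 2, 0, 0, 2, 0, 0, 0, 0, 2, 0, 0, 0, 0, 0, 2, 2, 0, 0, 2, 0, 2, 0, 0],
    [2, 2, 0, 0, 2, 0, 0, 0, 2, 2, 0, 0, 0, 2, 0, 0, 0, 0, 2, 0, 2, 0, 0, 0],
    [2, 2, 0, 0, 2, 0, 0, 2, 0, 0, 0, 0, 2, 0, 0, 0, 0, 0, 2, 2, 0, 0, 2, 0],
    [2, 2, 0, 0, 2, 0, 2, 0, 0, 2, 0, 0, 2, 0, 0, 0, 0, 2, 0, 0, 0, 0, 0, 2],
    [2, 2, 0, 0, 2, 0, 2, 0, 2, 0, 0, 2, 0, 0, 0, 0, 0, 0, 0, 0, 0, 2, 2, 0],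
    [2, 2, 0, 0, 2, 0, 2, 2, 0, 0, 2, 0, 0, 0, 0, 0, 2, 0, 0, 0, 2, 0, 0, 0],
    [2, 2, 0, 0, 2, 2, 0, 0, 0, 0, 0, 2, 0, 0, 0, 0, 2, 2, 2, 0, 0, 0, 0, 0],
    [2, 2, 0, 0, 2, 2, 0, 2, 2, 0, 0, 0, 0, 0, 0, 2, 0, 0, 0, 0, 0, 0, 0, 2],
    [2, 2, 0, 0, 2, 2, 2, 0, 0, 0, 0, 0, 0, 2, 2, 0, 0, 0, 0, 2, 0, 0, 0, 0],
    [2, 2, 0, 2, 0, 0, 0, 0, 0, 0, 0, 0, 2, 0, 0, 2, 0, 0, 0, 0, 0, 2, 2, 2],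
    [2, 2, 0, 2, 0, 0, 0, 0, 0, 0, 0, 2, 0, 2, 2, 0, 0, 0, 2, 0, 0, 0, 2, 0],
    [2, 2, 0, 2, 0, 0, 0, 0, 0, 0, 2, 0, 2, 0, 0, 0, 0, 2, 2, 0, 2, 0, 0, 0],
    [2, 2, 0, 2, 0, 0, 0, 0, 2, 2, 0, 2, 0, 0, 0, 2, 0, 2, 0, 0, 0, 0, 0, 0],
    [2, 2, 0, 2, 0, 0, 0, 2, 0, 0, 2, 0, 0, 0, 2, 2, 0, 0, 0, 2, 0, 0, 0, 0],
    [2, 2, 0, 2, 0, 0, 0, 2, 0, 2, 0, 0, 0, 0, 0, 0, 2, 0, 2, 0, 0, 0, 0, 2],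
    [2, 2, 0, 2, 0, 0, 2, 0, 0, 0, 0, 0, 0, 0, 0, 0, 2, 2, 0, 2, 0, 0, 2, 0],
    [2, 2, 0, 2, 0, 0, 2, 0, 0, 2, 0, 0, 0, 0, 2, 0, 0, 0, 0, 0, 2, 2, 0, 0],
    [2, 2, 0, 2, 0, 0, 2, 0, 2, 0, 2, 0, 0, 2, 0, 0, 0, 0, 0, 0, 0, 0, 0, 2],
    [2, 2, 0, 2, 0, 2, 0, 0, 0, 0, 0, 0, 0, 2, 0, 2, 2, 0, 0, 0, 2, 0, 0, 0],
    [2, 2, 0, 2, 0, 2, 0, 0, 2, 0, 0, 0, 0, 0, 0, 0, 0, 0, 2, 2, 0, 2, 0, 0],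
    [2, 2, 0, 2, 0, 2, 2, 2, 0, 0, 0, 2, 2, 0, 0, 0, 0, 0, 0, 0, 0, 0, 0, 0],
    [2, 2, 0, 2, 2, 0, 0, 0, 0, 0, 0, 2, 0, 0, 0, 0, 0, 0, 0, 2, 2, 0, 0, 2],
    [2, 2, 0, 2, 2, 0, 0, 0, 2, 0, 0, 0, 2, 0, 2, 0, 2, 0, 0, 0, 0, 0, 0, 0],
    [2, 2, 0, 2, 2, 0, 0, 2, 0, 0, 0, 0, 0, 2, 0, 0, 0, 2, 0, 0, 0, 2, 0, 0],
    [2, 2, 0, 2, 2, 2, 0, 0, 0, 2, 2, 0, 0, 0, 0, 0, 0, 0, 0, 0, 0, 0, 2, 0],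
    [3, 1, -1, -1, -1, -1, 1, -1, 1, 1, 1, 1, 1, 1, 1, 1, -1, 1, 1, -1, 1, 1, 1, 1],
    [3, 1, -1, -1, -1, 1, 1, 1, -1, -1, 1, 1, 1, 1, 1, 1, 1, 1, 1, 1, 1, -1, 1, -1],
    [3, 1, -1, -1, -1, 1, 1, 1, 1, 1, -1, 1, 1, -1, -1, 1, 1, 1, 1, 1, -1, 1, 1, 1],
    [3, 1, -1, -1, -1, 1, 1, 1, 1, 1, 1, -1, -1, 1, 1, 1, 1, -1, 1, 1, 1, 1, -1, 1],
    [3, 1, -1, -1, 1, -1, -1, 1, 1, 1, 1, 1, 1, -1, 1, 1, 1, 1, 1, 1, 1, -1, -1, 1],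
    [3, 1, -1, -1, 1, -1, 1, 1, -1, 1, -1, 1, -1, 1, 1, -1, 1, 1, 1, 1, 1, 1, 1, 1],
    [3, 1, -1, -1, 1, -1, 1, 1, 1, -1, 1, -1, 1, 1, 1, 1, 1, 1, -1, 1, -1, 1, 1, 1],
    [3, 1, -1, -1, 1, 1, -1, -1, 1, -1, -1, 1, 1, 1, 1, 1, 1, -1, 1, 1, 1, 1, 1, 1],
    [3, 1, -1, -1, 1, 1, -1, 1, -1, 1, 1, -1, 1, 1, -1, 1, 1, 1, 1, -1, 1, 1, 1, 1],
    [3, 1, -1, -1, 1, 1, -1, 1, 1, 1, 1, 1, -1, 1, 1, 1, -1, 1, 1, 1, -1, 1, 1, -1],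
    [3, 1, -1, -1, 1, 1, 1, -1, 1, 1, 1, -1, 1, -1, 1, -1, 1, 1, 1, 1, 1, 1, 1, -1],
    [3, 1, -1, -1, 1, 1, 1, -1, 1, 1, 1, 1, -1, 1, -1, 1, 1, 1, -1, 1, 1, -1, 1, 1],
    [3, 1, -1, -1, 1, 1, 1, 1, -1, 1, 1, 1, 1, -1, 1, 1, -1, -1, -1, 1, 1, 1, 1, 1],
    [3, 1, -1, -1, 1, 1, 1, 1, 1, -1, 1, 1, 1, 1, -1, -1, -1, 1, 1, 1, 1, 1, -1, 1],
    [3, 1, -1, -1, 1, 1, 1, 1, 1, 1, -1, 1, 1, 1, 1, 1, 1, 1, -1, -1, 1, 1, -1, -1],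
    [3, 1, -1, -1, 1, 1, 1, 1, 1, 1, 1, 1, 1, 1, 1, -1, 1, -1, 1, -1, -1, -1, 1, 1],
    [3, 1, -1, 1, -1, -1, -1, 1, 1, 1, -1, -1, 1, 1, 1, 1, 1, 1, 1, 1, 1, 1, 1, -1],
    [3, 1, -1, 1, -1, -1, 1, 1, -1, 1, 1, 1, 1, 1, -1, 1, 1, 1, -1, 1, 1, 1, -1, 1],
    [3, 1, -1, 1, -1, -1, 1, 1, 1, -1, 1, 1, 1, -1, 1, -1, 1, -1, 1, 1, 1, 1, 1, 1],
    [3, 1, -1, 1, -1, 1, -1, -1, -1, 1, 1, 1, -1, -1, 1, 1, 1, 1, 1, 1, 1, 1, 1, 1],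
    [3, 1, -1, 1, -1, 1, -1, 1, 1, -1, 1, 1, 1, 1, 1, 1, 1, 1, 1, -1, -1, 1, -1, 1],
    [3, 1, -1, 1, -1, 1, -1, 1, 1, 1, 1, 1, 1, 1, -1, 1, -1, -1, 1, 1, 1, -1, 1, 1],
    [3, 1, -1, 1, -1, 1, 1, -1, 1, 1, -1, 1, 1, 1, 1, -1, 1, 1, 1, 1, 1, -1, -1, 1],
    [3, 1, -1, 1, -1, 1, 1, -1, 1, 1, 1, 1, 1, 1, 1, 1, 1, -1, -1, 1, -1, 1, 1, -1],
    [3, 1, -1, 1, -1, 1, 1, 1, -1, 1, 1, -1, 1, 1, 1, -1, -1, 1, 1, 1, -1, 1, 1, 1],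
    [3, 1, -1, 1, -1, 1, 1, 1, 1, -1, -1, 1, -1, 1, 1, 1, -1, 1, -1, 1, 1, 1, 1, 1],
    [3, 1, -1, 1, -1, 1, 1, 1, 1, 1, 1, -1, 1, -1, 1, 1, 1, 1, -1, -1, 1, -1, 1, 1],
    [3, 1, -1, 1, -1, 1, 1, 1, 1, 1, 1, 1, -1, 1, -1, -1, 1, 1, 1, -1, 1, 1, 1, -1],
    [3, 1, -1, 1, 1, -1, -1, -1, 1, 1, 1, 1, 1, 1, -1, -1, 1, 1, 1, 1, -1, 1, 1, 1],
    [3, 1, -1, 1, 1, -1, -1, 1, 1, 1, 1, 1, -1, 1, 1, 1, 1, -1, -1, -1, 1, 1, 1, 1],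
    [3, 1, -1, 1, 1, -1, 1, -1, -1, 1, 1, -1, 1, 1, 1, 1, 1, -1, 1, 1, 1, -1, 1, 1],
    [3, 1, -1, 1, 1, -1, 1, -1, 1, -1, 1, 1, -1, 1, 1, 1, 1, 1, 1, 1, 1, 1, -1, -1],
    [3, 1, -1, 1, 1, -1, 1, 1, -1, 1, 1, 1, 1, -1, 1, 1, 1, 1, 1, -1, -1, 1, 1, -1],
    [3, 1, -1, 1, 1, -1, 1, 1, 1, -1, -1, 1, 1, 1, -1, 1, 1, 1, 1, -1, 1, -1, 1, 1],
    [3, 1, -1, 1, 1, -1, 1, 1, 1, 1, -1, 1, 1, 1, 1, 1, -1, -1, 1, 1, -1, 1, -1, 1],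
    [3, 1, -1, 1, 1, -1, 1, 1, 1, 1, 1, -1, -1, -1, -1, 1, -1, 1, 1, 1, 1, 1, 1, 1],
    [3, 1, -1, 1, 1, -1, 1, 1, 1, 1, 1, 1, 1, 1, 1, -1, -1, 1, -1, 1, 1, -1, 1, -1],
    [3, 1, -1, 1, 1, 1, -1, -1, 1, 1, 1, -1, 1, 1, 1, 1, -1, 1, -1, 1, 1, 1, -1, 1],
    [3, 1, -1, 1, 1, 1, -1, 1, -1, 1, -1, 1, 1, 1, 1, 1, 1, 1, -1, 1, -1, -1, 1, 1],
    [3, 1, -1, 1, 1, 1, -1, 1, -1, 1, 1, 1, 1, 1, 1, -1, 1, -1, 1, 1, 1, 1, -1, -1],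
    [3, 1, -1, 1, 1, 1, -1, 1, 1, -1, 1, -1, -1, 1, 1, -1, 1, 1, 1, 1, 1, -1, 1, 1],
    [3, 1, -1, 1, 1, 1, -1, 1, 1, -1, 1, 1, 1, -1, -1, 1, 1, 1, -1, 1, 1, 1, 1, -1],
    [3, 1, -1, 1, 1, 1, -1, 1, 1, 1, -1, 1, 1, -1, 1, -1, -1, 1, 1, -1, 1, 1, 1, 1],
    [3, 1, -1, 1, 1, 1, 1, -1, -1, -1, 1, 1, 1, 1, 1, -1, 1, 1, -1, -1, 1, 1, 1, 1],
    [3, 1, -1, 1, 1, 1, 1, -1, -1, 1, -1, 1, 1, 1, -1, 1, -1, 1, 1, 1, 1, 1, 1, -1],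
    [3, 1, -1, 1, 1, 1, 1, -1, 1, -1, 1, 1, 1, -1, 1, 1, -1, 1, 1, 1, -1, -1, 1, 1],
    [3, 1, -1, 1, 1, 1, 1, -1, 1, 1, -1, -1, -1, 1, 1, 1, 1, 1, 1, -1, -1, 1, 1, 1],
    [3, 1, -1, 1, 1, 1, 1, -1, 1, 1, 1, 1, 1, -1, -1, 1, 1, -1, 1, -1, 1, 1, -1, 1],
    [3, 1, -1, 1, 1, 1, 1, 1, -1, -1, -1, -1, 1, -1, 1, 1, 1, 1, 1, 1, 1, 1, -1, 1],
    [3, 1, -1, 1, 1, 1, 1, 1, -1, -1, 1, 1, -1, 1, -1, 1, 1, -1, 1, 1, -1, 1, 1, 1],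
    [3, 1, -1, 1, 1, 1, 1, 1, -1, 1, 1, 1, -1, 1, 1, 1, -1, 1, 1, -1, 1, -1, -1, 1],
    [3, 1, -1, 1, 1, 1, 1, 1, 1, -1, 1, -1, 1, 1, 1, 1, -1, -1, 1, -1, 1, 1, 1, -1],
    [3, 1, -1, 1, 1, 1, 1, 1, 1, 1, -1, -1, 1, 1, -1, -1, 1, -1, -1, 1, 1, 1, 1, 1],
    [3, 1, -1, 1, 1, 1, 1, 1, 1, 1, -1, 1, -1, -1, 1, 1, 1, -1, 1, 1, 1, -1, 1, -1],
    [3, 1, -1, 1, 1, 1, 1, 1, 1, 1, 1, -1, 1, 1, -1, 1, 1, 1, 1, 1, -1, -1, -1, -1],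
    [3, 1, -1, 1, 1, 1, 1, 1, 1, 1, 1, 1, -1, -1, 1, -1, 1, 1, -1, 1, -1, 1, -1, 1]]

set_option maxRecDepth 20000 in
/-- Stabiliser words. -/
def genWords : List (List St) :=
  [
    [.perm [0, 1, 2, 6, 8, 17, 16, 22, 12, 7, 18, 3, 19, 21, 20, 5, 15, 11, 9, 23, 10, 4, 14, 13]],
    [.perm [0, 1, 2, 4, 16, 11, 22, 8, 19, 5, 18, 6, 21, 12, 9, 13, 15, 14, 23, 20, 10, 3, 17, 7]],
    [.xi, .perm [6, 1, 2, 3, 23, 16, 9, 12, 8, 5, 4, 15, 10, 19, 13, 22, 0, 14, 11, 20, 17, 18, 21, 7], .xi],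
    [.xi, .perm [6, 1, 2, 3, 23, 16, 9, 12, 8, 5, 4, 15, 10, 19, 13, 22, 0, 14, 11, 20, 17, 18, 21, 7], .xi],
    [.perm [0, 1, 2, 11, 21, 15, 3, 9, 4, 18, 20, 17, 8, 23, 22, 16, 6, 5, 10, 12, 14, 13, 7, 19]],
    [.perm [0, 1, 2, 21, 3, 9, 11, 23, 7, 14, 20, 5, 13, 15, 17, 16, 4, 22, 10, 8, 19, 12, 6, 18]],
    [.xi, .perm [16, 1, 2, 3, 10, 9, 0, 23, 8, 6, 12, 18, 7, 14, 17, 11, 5, 20, 21, 13, 19, 22, 15, 4], .xi],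
    [.xi, .perm [16, 1, 2, 3, 10, 9, 0, 23, 8, 6, 12, 18, 7, 14, 17, 11, 5, 20, 21, 13, 19, 22, 15, 4], .xi]]

set_option maxRecDepth 20000 in
/-- Their permutations of the 112 vectors. -/
def genPerms : List (List ℕ) :=
  [
    [19, 22, 8, 18, 26, 39, 36, 33, 7, 4, 25, 34, 32, 48, 46, 42, 53, 45, 55, 16, 6, 0, 38, 28, 17, 20, 44, 49, 24, 2, 5, 13, 29, 12, 50, 54, 47, 27, 31, 40, 11, 10, 23, 37, 3, 15, 51, 41, 52, 14, 30, 43, 1, 35, 21, 9, 96, 82, 110, 86, 66, 80, 108, 62, 59, 64, 107, 104, 72, 93, 102, 91, 71, 78, 92, 57, 67, 60, 101, 89, 77, 94, 109, 106, 69, 61, 74, 99, 83, 111, 84, 95, 98, 63, 58, 56, 68, 70, 65, 81, 76, 97, 105, 87, 79, 73, 75, 85, 90, 88, 103, 100],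
    [6, 22, 16, 39, 28, 33, 36, 18, 0, 19, 26, 38, 8, 30, 37, 23, 11, 14, 10, 32, 4, 20, 17, 25, 34, 7, 15, 3, 46, 42, 49, 53, 44, 48, 41, 51, 52, 55, 45, 43, 13, 27, 2, 24, 5, 29, 35, 1, 9, 31, 12, 21, 50, 54, 40, 47, 57, 67, 71, 60, 96, 101, 89, 110, 86, 82, 92, 109, 78, 77, 94, 106, 62, 63, 69, 66, 64, 59, 65, 70, 56, 58, 61, 68, 107, 104, 87, 97, 99, 105, 76, 74, 81, 72, 102, 93, 91, 108, 80, 100, 79, 83, 88, 95, 84, 103, 75, 73, 90, 111, 85, 98],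
    [63, 0, 28, 25, 16, 39, 70, 22, 33, 61, 8, 32, 34, 31, 11, 5, 37, 3, 13, 38, 58, 7, 20, 18, 17, 26, 24, 14, 57, 62, 60, 67, 66, 64, 19, 4, 36, 59, 71, 6, 94, 72, 104, 78, 89, 108, 49, 46, 53, 109, 102, 45, 96, 110, 86, 82, 1, 9, 21, 35, 69, 2, 30, 65, 68, 56, 27, 23, 10, 29, 15, 12, 100, 52, 54, 81, 90, 98, 50, 43, 40, 41, 51, 47, 93, 92, 97, 87, 73, 95, 84, 99, 42, 101, 77, 91, 107, 106, 80, 44, 75, 76, 79, 111, 105, 85, 74, 88, 55, 83, 103, 48],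
    [63, 0, 28, 25, 16, 39, 70, 22, 33, 61, 8, 32, 34, 31, 11, 5, 37, 3, 13, 38, 58, 7, 20, 18, 17, 26, 24, 14, 57, 62, 60, 67, 66, 64, 19, 4, 36, 59, 71, 6, 94, 72, 104, 78, 89, 108, 49, 46, 53, 109, 102, 45, 96, 110, 86, 82, 1, 9, 21, 35, 69, 2, 30, 65, 68, 56, 27, 23, 10, 29, 15, 12, 100, 52, 54, 81, 90, 98, 50, 43, 40, 41, 51, 47, 93, 92, 97, 87, 73, 95, 84, 99, 42, 101, 77, 91, 107, 106, 80, 44, 75, 76, 79, 111, 105, 85, 74, 88, 55, 83, 103, 48],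
    [21, 52, 29, 44, 9, 30, 20, 8, 2, 55, 41, 40, 33, 31, 49, 45, 19, 24, 3, 0, 25, 54, 1, 42, 28, 10, 4, 37, 23, 32, 50, 38, 12, 7, 11, 53, 6, 43, 22, 5, 39, 47, 15, 51, 26, 17, 14, 36, 13, 27, 34, 46, 48, 16, 35, 18, 95, 75, 94, 64, 77, 85, 63, 93, 65, 98, 60, 76, 96, 84, 97, 72, 68, 105, 86, 106, 100, 80, 73, 104, 61, 99, 57, 88, 90, 107, 59, 103, 109, 79, 108, 71, 74, 69, 81, 91, 56, 101, 92, 87, 111, 78, 70, 110, 67, 102, 83, 66, 62, 82, 58, 89],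
    [8, 47, 42, 27, 20, 44, 0, 25, 12, 48, 18, 16, 50, 40, 17, 26, 2, 22, 7, 9, 21, 51, 1, 15, 43, 23, 10, 41, 4, 45, 13, 49, 19, 5, 24, 46, 6, 14, 11, 3, 54, 34, 29, 39, 32, 38, 28, 55, 33, 30, 52, 35, 36, 31, 53, 37, 80, 56, 81, 77, 59, 82, 72, 73, 76, 78, 75, 57, 83, 74, 79, 58, 93, 107, 91, 106, 90, 69, 68, 100, 98, 92, 65, 101, 104, 110, 64, 86, 102, 62, 108, 96, 66, 95, 70, 103, 60, 87, 111, 88, 99, 61, 94, 105, 85, 89, 71, 84, 97, 67, 63, 109],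
    [1, 56, 61, 17, 35, 15, 39, 21, 10, 57, 68, 14, 71, 18, 27, 70, 4, 24, 23, 34, 22, 58, 7, 67, 26, 3, 25, 66, 2, 69, 62, 13, 11, 8, 12, 59, 36, 16, 19, 5, 80, 81, 92, 79, 99, 51, 47, 83, 111, 46, 78, 82, 73, 48, 74, 108, 65, 28, 20, 37, 30, 9, 29, 0, 33, 63, 32, 31, 64, 60, 6, 38, 41, 88, 106, 100, 101, 94, 43, 102, 98, 75, 55, 109, 90, 105, 54, 87, 107, 44, 76, 95, 85, 84, 40, 89, 52, 86, 77, 91, 72, 93, 50, 110, 42, 104, 97, 96, 45, 49, 53, 103],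
    [1, 56, 61, 17, 35, 15, 39, 21, 10, 57, 68, 14, 71, 18, 27, 70, 4, 24, 23, 34, 22, 58, 7, 67, 26, 3, 25, 66, 2, 69, 62, 13, 11, 8, 12, 59, 36, 16, 19, 5, 80, 81, 92, 79, 99, 51, 47, 83, 111, 46, 78, 82, 73, 48, 74, 108, 65, 28, 20, 37, 30, 9, 29, 0, 33, 63, 32, 31, 64, 60, 6, 38, 41, 88, 106, 100, 101, 94, 43, 102, 98, 75, 55, 109, 90, 105, 54, 87, 107, 44, 76, 95, 85, 84, 40, 89, 52, 86, 77, 91, 72, 93, 50, 110, 42, 104, 97, 96, 45, 49, 53, 103]]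

set_option maxRecDepth 20000 in
/-- Two vectors spanning the isotropic line of each of the 112 vectors. -/
def lineData : List (List (ℕ × ℕ) × List (ℕ × ℕ)) :=
  [
    ([(0, 0), (0, 0), (1, 0), (1, 1)], [(1, 0), (1, 1), (0, 0), (0, 0)]),
    ([(0, 0), (1, 0), (0, 2), (0, 1)], [(1, 0), (0, 0), (0, 1), (0, 1)]),
    ([(0, 0), (0, 0), (1, 0), (2, 2)], [(1, 0), (2, 2), (0, 0), (0, 0)]),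
    ([(0, 0), (0, 0), (1, 0), (1, 1)], [(1, 0), (1, 2), (0, 0), (0, 0)]),
    ([(0, 0), (1, 0), (1, 0), (2, 0)], [(1, 0), (0, 0), (2, 0), (2, 0)]),
    ([(0, 0), (1, 0), (0, 1), (2, 0)], [(1, 0), (0, 0), (0, 1), (1, 0)]),
    ([(0, 0), (1, 0), (2, 0), (1, 0)], [(1, 0), (0, 0), (0, 1), (0, 1)]),
    ([(0, 0), (1, 0), (2, 1), (0, 0)], [(1, 0), (0, 0), (0, 0), (2, 1)]),
    ([(0, 0), (1, 0), (0, 0), (2, 1)], [(1, 0), (0, 0), (1, 2), (0, 0)]),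
    ([(0, 0), (1, 0), (1, 0), (2, 0)], [(1, 0), (0, 0), (0, 2), (0, 2)]),
    ([(0, 0), (1, 0), (0, 2), (1, 0)], [(1, 0), (0, 0), (0, 2), (2, 0)]),
    ([(0, 0), (0, 0), (1, 0), (2, 1)], [(1, 0), (2, 1), (0, 0), (0, 0)]),
    ([(0, 0), (0, 0), (1, 0), (1, 2)], [(1, 0), (1, 1), (0, 0), (0, 0)]),
    ([(0, 0), (1, 0), (0, 0), (2, 2)], [(1, 0), (0, 0), (1, 1), (0, 0)]),
    ([(0, 0), (1, 0), (0, 1), (0, 1)], [(1, 0), (0, 0), (1, 0), (2, 0)]),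
    ([(0, 0), (1, 0), (2, 2), (0, 0)], [(1, 0), (0, 0), (0, 0), (2, 2)]),
    ([(0, 0), (1, 0), (0, 2), (0, 2)], [(1, 0), (0, 0), (0, 2), (0, 1)]),
    ([(0, 0), (1, 0), (2, 0), (2, 0)], [(1, 0), (0, 0), (2, 0), (1, 0)]),
    ([(0, 0), (1, 0), (2, 0), (0, 2)], [(1, 0), (0, 0), (1, 0), (0, 2)]),
    ([(0, 0), (1, 0), (0, 1), (0, 2)], [(1, 0), (0, 0), (0, 2), (0, 2)]),
    ([(0, 0), (0, 0), (1, 0), (2, 1)], [(1, 0), (2, 2), (0, 0), (0, 0)]),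
    ([(0, 0), (1, 0), (2, 0), (1, 0)], [(1, 0), (0, 0), (1, 0), (1, 0)]),
    ([(0, 0), (1, 0), (0, 0), (1, 2)], [(1, 0), (0, 0), (2, 1), (0, 0)]),
    ([(0, 0), (1, 0), (2, 0), (0, 1)], [(1, 0), (0, 0), (2, 0), (0, 2)]),
    ([(0, 0), (1, 0), (1, 0), (0, 2)], [(1, 0), (0, 0), (1, 0), (0, 1)]),
    ([(0, 0), (1, 0), (1, 2), (0, 0)], [(1, 0), (0, 0), (0, 0), (1, 2)]),
    ([(0, 0), (1, 0), (0, 2), (2, 0)], [(1, 0), (0, 0), (0, 1), (2, 0)]),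
    ([(0, 0), (1, 0), (1, 0), (1, 0)], [(1, 0), (0, 0), (0, 1), (0, 2)]),
    ([(0, 0), (1, 0), (0, 1), (1, 0)], [(1, 0), (0, 0), (0, 2), (1, 0)]),
    ([(0, 0), (1, 0), (2, 0), (2, 0)], [(1, 0), (0, 0), (0, 2), (0, 1)]),
    ([(0, 0), (1, 0), (0, 0), (1, 1)], [(1, 0), (0, 0), (2, 2), (0, 0)]),
    ([(0, 0), (1, 0), (1, 1), (0, 0)], [(1, 0), (0, 0), (0, 0), (1, 1)]),
    ([(0, 0), (1, 0), (1, 0), (1, 0)], [(1, 0), (0, 0), (1, 0), (2, 0)]),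
    ([(0, 0), (1, 0), (0, 1), (0, 1)], [(1, 0), (0, 0), (0, 1), (0, 2)]),
    ([(0, 0), (0, 0), (1, 0), (2, 2)], [(1, 0), (2, 1), (0, 0), (0, 0)]),
    ([(0, 0), (1, 0), (0, 1), (0, 2)], [(1, 0), (0, 0), (2, 0), (2, 0)]),
    ([(0, 0), (1, 0), (0, 2), (0, 1)], [(1, 0), (0, 0), (1, 0), (1, 0)]),
    ([(0, 0), (1, 0), (0, 2), (0, 2)], [(1, 0), (0, 0), (2, 0), (1, 0)]),
    ([(0, 0), (1, 0), (1, 0), (0, 1)], [(1, 0), (0, 0), (2, 0), (0, 1)]),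
    ([(0, 0), (0, 0), (1, 0), (1, 2)], [(1, 0), (1, 2), (0, 0), (0, 0)]),
    ([(0, 0), (1, 0), (2, 2), (0, 0)], [(1, 0), (0, 0), (0, 0), (1, 2)]),
    ([(0, 0), (1, 0), (1, 0), (0, 1)], [(1, 0), (0, 0), (0, 1), (1, 0)]),
    ([(0, 0), (1, 0), (1, 1), (0, 0)], [(1, 0), (0, 0), (0, 0), (2, 1)]),
    ([(0, 0), (1, 0), (0, 2), (2, 0)], [(1, 0), (0, 0), (1, 0), (0, 1)]),
    ([(0, 0), (1, 0), (0, 0), (2, 2)], [(1, 0), (0, 0), (2, 1), (0, 0)]),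
    ([(0, 0), (1, 0), (0, 1), (1, 0)], [(1, 0), (0, 0), (2, 0), (0, 2)]),
    ([(0, 0), (1, 0), (0, 0), (2, 1)], [(1, 0), (0, 0), (2, 2), (0, 0)]),
    ([(0, 0), (1, 0), (0, 2), (1, 0)], [(1, 0), (0, 0), (2, 0), (0, 1)]),
    ([(0, 0), (1, 0), (1, 0), (0, 2)], [(1, 0), (0, 0), (0, 2), (1, 0)]),
    ([(0, 0), (1, 0), (2, 0), (0, 2)], [(1, 0), (0, 0), (0, 2), (2, 0)]),
    ([(0, 0), (1, 0), (0, 0), (1, 1)], [(1, 0), (0, 0), (1, 2), (0, 0)]),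
    ([(0, 0), (1, 0), (2, 1), (0, 0)], [(1, 0), (0, 0), (0, 0), (1, 1)]),
    ([(0, 0), (1, 0), (0, 0), (1, 2)], [(1, 0), (0, 0), (1, 1), (0, 0)]),
    ([(0, 0), (1, 0), (1, 2), (0, 0)], [(1, 0), (0, 0), (0, 0), (2, 2)]),
    ([(0, 0), (1, 0), (2, 0), (0, 1)], [(1, 0), (0, 0), (0, 1), (2, 0)]),
    ([(0, 0), (1, 0), (0, 1), (2, 0)], [(1, 0), (0, 0), (1, 0), (0, 2)]),
    ([(0, 0), (1, 0), (1, 2), (0, 0)], [(1, 0), (0, 0), (0, 0), (1, 1)]),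
    ([(0, 0), (1, 0), (0, 1), (2, 0)], [(1, 0), (0, 0), (2, 0), (0, 1)]),
    ([(0, 0), (1, 0), (2, 0), (0, 1)], [(1, 0), (0, 0), (0, 2), (1, 0)]),
    ([(0, 0), (1, 0), (0, 0), (1, 2)], [(1, 0), (0, 0), (2, 2), (0, 0)]),
    ([(0, 0), (1, 0), (1, 0), (0, 2)], [(1, 0), (0, 0), (0, 1), (2, 0)]),
    ([(0, 0), (1, 0), (0, 0), (1, 1)], [(1, 0), (0, 0), (2, 1), (0, 0)]),
    ([(0, 0), (1, 0), (0, 2), (2, 0)], [(1, 0), (0, 0), (2, 0), (0, 2)]),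
    ([(0, 0), (1, 0), (0, 2), (1, 0)], [(1, 0), (0, 0), (1, 0), (0, 2)]),
    ([(0, 0), (1, 0), (2, 1), (0, 0)], [(1, 0), (0, 0), (0, 0), (2, 2)]),
    ([(0, 0), (1, 0), (0, 0), (2, 1)], [(1, 0), (0, 0), (1, 1), (0, 0)]),
    ([(0, 0), (1, 0), (1, 0), (0, 1)], [(1, 0), (0, 0), (0, 2), (2, 0)]),
    ([(0, 0), (1, 0), (0, 0), (2, 2)], [(1, 0), (0, 0), (1, 2), (0, 0)]),
    ([(0, 0), (1, 0), (2, 0), (0, 2)], [(1, 0), (0, 0), (0, 1), (1, 0)]),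
    ([(0, 0), (1, 0), (0, 1), (1, 0)], [(1, 0), (0, 0), (1, 0), (0, 1)]),
    ([(0, 0), (1, 0), (2, 2), (0, 0)], [(1, 0), (0, 0), (0, 0), (2, 1)]),
    ([(0, 0), (1, 0), (1, 1), (0, 0)], [(1, 0), (0, 0), (0, 0), (1, 2)]),
    ([(0, 0), (1, 0), (0, 1), (0, 2)], [(1, 0), (0, 0), (1, 0), (1, 0)]),
    ([(0, 0), (1, 0), (1, 0), (0, 1)], [(1, 0), (0, 0), (1, 0), (0, 2)]),
    ([(0, 0), (1, 0), (1, 0), (1, 0)], [(1, 0), (0, 0), (2, 0), (1, 0)]),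
    ([(0, 0), (0, 0), (1, 0), (1, 2)], [(1, 0), (2, 1), (0, 0), (0, 0)]),
    ([(0, 0), (0, 0), (1, 0), (2, 2)], [(1, 0), (1, 2), (0, 0), (0, 0)]),
    ([(0, 0), (1, 0), (0, 2), (0, 1)], [(1, 0), (0, 0), (2, 0), (2, 0)]),
    ([(0, 0), (1, 0), (2, 0), (2, 0)], [(1, 0), (0, 0), (0, 1), (0, 2)]),
    ([(0, 0), (1, 0), (0, 1), (1, 0)], [(1, 0), (0, 0), (0, 1), (2, 0)]),
    ([(0, 0), (1, 0), (0, 2), (0, 2)], [(1, 0), (0, 0), (1, 0), (2, 0)]),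
    ([(0, 0), (1, 0), (1, 1), (0, 0)], [(1, 0), (0, 0), (0, 0), (2, 2)]),
    ([(0, 0), (1, 0), (0, 0), (1, 1)], [(1, 0), (0, 0), (1, 1), (0, 0)]),
    ([(0, 0), (1, 0), (0, 1), (0, 1)], [(1, 0), (0, 0), (0, 2), (0, 1)]),
    ([(0, 0), (1, 0), (2, 0), (0, 2)], [(1, 0), (0, 0), (2, 0), (0, 1)]),
    ([(0, 0), (1, 0), (0, 2), (0, 2)], [(1, 0), (0, 0), (0, 1), (0, 2)]),
    ([(0, 0), (1, 0), (2, 0), (0, 1)], [(1, 0), (0, 0), (1, 0), (0, 1)]),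
    ([(0, 0), (1, 0), (2, 1), (0, 0)], [(1, 0), (0, 0), (0, 0), (1, 2)]),
    ([(0, 0), (1, 0), (0, 0), (1, 2)], [(1, 0), (0, 0), (1, 2), (0, 0)]),
    ([(0, 0), (0, 0), (1, 0), (1, 2)], [(1, 0), (2, 2), (0, 0), (0, 0)]),
    ([(0, 0), (1, 0), (0, 1), (2, 0)], [(1, 0), (0, 0), (0, 2), (2, 0)]),
    ([(0, 0), (0, 0), (1, 0), (2, 1)], [(1, 0), (1, 2), (0, 0), (0, 0)]),
    ([(0, 0), (1, 0), (2, 0), (1, 0)], [(1, 0), (0, 0), (0, 2), (0, 2)]),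
    ([(0, 0), (1, 0), (0, 1), (0, 1)], [(1, 0), (0, 0), (2, 0), (1, 0)]),
    ([(0, 0), (1, 0), (1, 0), (1, 0)], [(1, 0), (0, 0), (0, 2), (0, 1)]),
    ([(0, 0), (1, 0), (0, 2), (2, 0)], [(1, 0), (0, 0), (0, 2), (1, 0)]),
    ([(0, 0), (1, 0), (2, 2), (0, 0)], [(1, 0), (0, 0), (0, 0), (1, 1)]),
    ([(0, 0), (1, 0), (2, 0), (2, 0)], [(1, 0), (0, 0), (1, 0), (2, 0)]),
    ([(0, 0), (1, 0), (0, 0), (2, 2)], [(1, 0), (0, 0), (2, 2), (0, 0)]),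
    ([(0, 0), (0, 0), (1, 0), (2, 1)], [(1, 0), (1, 1), (0, 0), (0, 0)]),
    ([(0, 0), (1, 0), (1, 0), (0, 2)], [(1, 0), (0, 0), (2, 0), (0, 2)]),
    ([(0, 0), (1, 0), (1, 0), (2, 0)], [(1, 0), (0, 0), (1, 0), (1, 0)]),
    ([(0, 0), (1, 0), (0, 2), (0, 1)], [(1, 0), (0, 0), (0, 2), (0, 2)]),
    ([(0, 0), (1, 0), (0, 0), (2, 1)], [(1, 0), (0, 0), (2, 1), (0, 0)]),
    ([(0, 0), (1, 0), (2, 0), (1, 0)], [(1, 0), (0, 0), (2, 0), (2, 0)]),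
    ([(0, 0), (1, 0), (1, 2), (0, 0)], [(1, 0), (0, 0), (0, 0), (2, 1)]),
    ([(0, 0), (1, 0), (0, 1), (0, 2)], [(1, 0), (0, 0), (0, 1), (0, 1)]),
    ([(0, 0), (0, 0), (1, 0), (1, 1)], [(1, 0), (2, 1), (0, 0), (0, 0)]),
    ([(0, 0), (1, 0), (1, 0), (2, 0)], [(1, 0), (0, 0), (0, 1), (0, 1)]),
    ([(0, 0), (0, 0), (1, 0), (2, 2)], [(1, 0), (1, 1), (0, 0), (0, 0)]),
    ([(0, 0), (1, 0), (0, 2), (1, 0)], [(1, 0), (0, 0), (0, 1), (1, 0)]),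
    ([(0, 0), (0, 0), (1, 0), (1, 1)], [(1, 0), (2, 2), (0, 0), (0, 0)])]

/-- The centres of the generating transvections. -/
def trvData : List (List (ℕ × ℕ)) :=
  [
    [(0, 0), (0, 0), (1, 0), (1, 1)],
    [(1, 0), (1, 0), (2, 2), (1, 2)],
    [(1, 0), (1, 1), (2, 2), (2, 0)],
    [(1, 0), (0, 1), (0, 0), (0, 2)]]

/-- Words in the generators inducing the transvections. -/
def trvWords : List (List ℕ) :=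
  [
    [1, 4, 4, 2, 4, 4, 2, 5],
    [5, 4, 5, 5, 6, 5, 4, 2, 5, 2],
    [6, 6, 5, 2, 1, 6, 0, 0, 5, 4],
    [1, 0, 6, 1, 0, 6, 5, 5, 4, 1]]

set_option maxRecDepth 20000 in
/-- Coordinates of the images of the spanning vectors. -/
def trvCoef : List (List (List (ℕ × ℕ))) :=
  [
    [[(1, 0), (0, 0), (0, 0), (1, 0)], [(1, 0), (0, 0), (0, 0), (1, 0)], [(1, 2), (0, 0), (0, 0), (1, 0)], [(1, 0), (0, 0), (0, 0), (1, 0)], [(1, 0), (0, 0), (0, 0), (1, 0)], [(1, 0), (0, 0), (0, 0), (1, 0)], [(1, 0), (0, 0), (0, 0), (1, 0)], [(1, 0), (0, 0), (0, 0), (1, 0)], [(1, 0), (0, 0), (0, 0), (1, 0)], [(1, 0), (0, 0), (0, 0), (1, 0)], [(1, 0), (0, 0), (0, 0), (1, 0)], [(2, 1), (0, 0), (0, 0), (1, 0)], [(0, 1), (0, 0), (0, 0), (1, 0)], [(1, 0), (0, 0), (0, 0), (1, 0)], [(1, 0), (0,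 0), (0, 0), (1, 0)], [(1, 0), (0, 0), (0, 0), (1, 0)], [(1, 0), (0, 0), (0, 0), (1, 0)], [(1, 0), (0, 0), (0, 0), (1, 0)], [(1, 0), (0, 0), (0, 0), (1, 0)], [(1, 0), (0, 0), (0, 0), (1, 0)], [(2, 1), (0, 0), (0, 0), (1, 0)], [(1, 0), (0, 0), (0, 0), (1, 0)], [(1, 0), (0, 0), (0, 0), (1, 0)], [(1, 0), (0, 0), (0, 0), (1, 0)], [(1, 0), (0, 0), (0, 0), (1, 0)], [(1, 0), (0, 0), (0, 0), (1, 0)], [(1, 0), (0, 0), (0, 0), (1, 0)], [(1, 0), (0, 0), (0, 0), (1, 0)], [(1, 0), (0, 0), (0, 0), (1, 0)], [(1, 0), (0, 0), (0, 0), (1, 0)], [(1, 0), (0, 0), (0, 0), (1, 0)], [(1, 0), (0, 0), (0, 0), (1, 0)], [(1, 0), (0, 0), (0, 0), (1, 0)], [(1, 0), (0, 0), (0, 0), (1, 0)], [(1, 2), (0, 0), (0, 0), (1, 0)], [(1, 0), (0, 0), (0, 0), (1, 0)], [(1, 0), (0, 0), (0, 0), (1, 0)], [(1,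 0), (0, 0), (0, 0), (1, 0)], [(1, 0), (0, 0), (0, 0), (1, 0)], [(0, 1), (0, 0), (0, 0), (1, 0)], [(1, 0), (0, 0), (0, 0), (1, 0)], [(1, 0), (0, 0), (0, 0), (1, 0)], [(1, 0), (0, 0), (0, 0), (1, 0)], [(1, 0), (0, 0), (0, 0), (1, 0)], [(1, 0), (0, 0), (0, 0), (1, 0)], [(1, 0), (0, 0), (0, 0), (1, 0)], [(1, 0), (0, 0), (0, 0), (1, 0)], [(1, 0), (0, 0), (0, 0), (1, 0)], [(1, 0), (0, 0), (0, 0), (1, 0)], [(1, 0), (0, 0), (0, 0), (1, 0)], [(1, 0), (0, 0), (0, 0), (1, 0)], [(1, 0), (0, 0), (0, 0), (1, 0)], [(1, 0), (0, 0), (0, 0), (1, 0)], [(1, 0), (0, 0), (0, 0), (1, 0)], [(1, 0), (0, 0), (0, 0), (1, 0)], [(1, 0), (0, 0), (0, 0), (1, 0)], [(1, 0), (0, 0), (0, 0), (1, 0)], [(1, 0), (0, 0), (0, 0), (1, 0)], [(1, 0), (0, 0), (0, 0), (1, 0)], [(1, 0), (0, 0), (0, 0), (1,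 0)], [(1, 0), (0, 0), (0, 0), (1, 0)], [(1, 0), (0, 0), (0, 0), (1, 0)], [(1, 0), (0, 0), (0, 0), (1, 0)], [(1, 0), (0, 0), (0, 0), (1, 0)], [(1, 0), (0, 0), (0, 0), (1, 0)], [(1, 0), (0, 0), (0, 0), (1, 0)], [(1, 0), (0, 0), (0, 0), (1, 0)], [(1, 0), (0, 0), (0, 0), (1, 0)], [(1, 0), (0, 0), (0, 0), (1, 0)], [(1, 0), (0, 0), (0, 0), (1, 0)], [(1, 0), (0, 0), (0, 0), (1, 0)], [(1, 0), (0, 0), (0, 0), (1, 0)], [(1, 0), (0, 0), (0, 0), (1, 0)], [(1, 0), (0, 0), (0, 0), (1, 0)], [(1, 0), (0, 0), (0, 0), (1, 0)], [(0, 1), (0, 0), (0, 0), (1, 0)], [(1, 2), (0, 0), (0, 0), (1, 0)], [(1, 0), (0, 0), (0, 0), (1, 0)], [(1, 0), (0, 0), (0, 0), (1, 0)], [(1, 0), (0, 0), (0, 0), (1, 0)], [(1, 0), (0, 0), (0, 0), (1, 0)], [(1, 0), (0, 0), (0, 0), (1, 0)], [(1, 0), (0, 0), (0,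 0), (1, 0)], [(1, 0), (0, 0), (0, 0), (1, 0)], [(1, 0), (0, 0), (0, 0), (1, 0)], [(1, 0), (0, 0), (0, 0), (1, 0)], [(1, 0), (0, 0), (0, 0), (1, 0)], [(1, 0), (0, 0), (0, 0), (1, 0)], [(1, 0), (0, 0), (0, 0), (1, 0)], [(0, 1), (0, 0), (0, 0), (1, 0)], [(1, 0), (0, 0), (0, 0), (1, 0)], [(2, 1), (0, 0), (0, 0), (1, 0)], [(1, 0), (0, 0), (0, 0), (1, 0)], [(1, 0), (0, 0), (0, 0), (1, 0)], [(1, 0), (0, 0), (0, 0), (1, 0)], [(1, 0), (0, 0), (0, 0), (1, 0)], [(1, 0), (0, 0), (0, 0), (1, 0)], [(1, 0), (0, 0), (0, 0), (1, 0)], [(1, 0), (0, 0), (0, 0), (1, 0)], [(2, 1), (0, 0), (0, 0), (1, 0)], [(1, 0), (0, 0), (0, 0), (1, 0)], [(1, 0), (0, 0), (0, 0), (1, 0)], [(1, 0), (0, 0), (0, 0), (1, 0)], [(1, 0), (0, 0), (0, 0), (1, 0)], [(1, 0), (0, 0), (0, 0), (1, 0)], [(1, 0), (0,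 0), (0, 0), (1, 0)], [(1, 0), (0, 0), (0, 0), (1, 0)], [(1, 0), (0, 0), (0, 0), (1, 0)], [(1, 0), (0, 0), (0, 0), (1, 0)], [(1, 2), (0, 0), (0, 0), (1, 0)], [(1, 0), (0, 0), (0, 0), (1, 0)], [(1, 0), (0, 0), (0, 0), (1, 0)]],
    [[(0, 2), (0, 2), (0, 0), (0, 2)], [(2, 1), (1, 1), (0, 2), (1, 2)], [(1, 2), (1, 2), (0, 2), (2, 0)], [(0, 2), (0, 2), (2, 1), (2, 2)], [(0, 1), (0, 2), (1, 0), (0, 1)], [(0, 0), (2, 2), (1, 0), (1, 1)], [(1, 0), (0, 0), (0, 2), (1, 2)], [(1, 1), (2, 1), (2, 1), (1, 2)], [(1, 2), (0, 2), (1, 1), (2, 1)], [(1, 2), (0, 2), (0, 0), (1, 0)], [(2, 0), (1, 0), (0, 1), (1, 1)], [(2, 0), (2, 0), (1, 1), (0, 0)], [(2, 1), (2, 1), (0, 0), (0, 2)], [(2, 0), (2, 1), (0, 2), (1, 2)], [(1, 2), (0, 2), (0, 2), (1, 2)], [(1, 0), (0, 0), (2, 1), (0, 1)],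 [(1, 0), (0, 0), (1, 1), (2, 1)], [(0, 1), (2, 1), (0, 0), (1, 0)], [(0, 0), (2, 0), (0, 1), (1, 1)], [(0, 1), (2, 1), (0, 0), (1, 0)], [(2, 0), (2, 0), (0, 2), (2, 0)], [(1, 0), (0, 0), (1, 1), (2, 1)], [(1, 0), (0, 0), (2, 1), (0, 1)], [(1, 1), (0, 1), (2, 0), (0, 0)], [(1, 1), (0, 1), (1, 2), (2, 2)], [(2, 1), (1, 1), (0, 0), (1, 0)], [(1, 1), (0, 1), (0, 0), (0, 2)], [(2, 1), (1, 1), (2, 1), (0, 1)], [(1, 1), (0, 1), (1, 0), (2, 0)], [(0, 1), (2, 1), (1, 1), (2, 1)], [(2, 1), (1, 1), (0, 0), (1, 0)], [(1, 2), (0, 2), (1, 1), (2, 1)], [(2, 1), (1, 1), (0, 2), (1, 2)], [(2, 2), (0, 2), (2, 1), (0, 1)], [(1, 2), (1, 2), (1, 1), (0, 0)], [(0, 1), (2, 1), (2, 1), (0, 1)], [(2, 1), (1, 1), (1, 1), (2, 1)], [(1, 0), (0, 0), (0, 0), (1, 0)], [(2, 2), (1, 2), (0, 1),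 (1, 1)], [(2, 1), (2, 1), (2, 1), (2, 2)], [(1, 0), (0, 0), (0, 0), (1, 0)], [(2, 2), (1, 2), (0, 1), (1, 1)], [(1, 2), (0, 2), (0, 2), (1, 2)], [(1, 1), (0, 1), (1, 2), (2, 2)], [(0, 1), (2, 1), (2, 1), (0, 1)], [(1, 1), (0, 1), (2, 0), (0, 0)], [(1, 2), (0, 2), (0, 0), (1, 0)], [(2, 0), (1, 0), (0, 1), (1, 1)], [(1, 1), (0, 1), (1, 0), (2, 0)], [(0, 0), (2, 0), (0, 1), (1, 1)], [(2, 1), (1, 1), (1, 1), (2, 1)], [(0, 1), (2, 1), (1, 1), (2, 1)], [(1, 0), (0, 0), (0, 2), (1, 2)], [(2, 1), (1, 1), (2, 1), (0, 1)], [(0, 2), (0, 1), (0, 0), (0, 2)], [(0, 0), (2, 2), (2, 2), (1, 1)], [(2, 1), (1, 1), (1, 1), (2, 1)], [(0, 0), (2, 2), (0, 2), (1, 1)], [(1, 1), (0, 1), (1, 0), (2, 0)], [(1, 0), (0, 0), (0, 0), (1, 0)], [(2, 2), (0, 1), (0, 0), (0, 2)], [(2, 1), (1, 1),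 (2, 1), (0, 1)], [(1, 1), (0, 1), (2, 0), (0, 0)], [(2, 0), (1, 0), (0, 1), (1, 1)], [(0, 1), (2, 1), (2, 1), (0, 1)], [(1, 2), (0, 2), (0, 2), (1, 2)], [(2, 2), (1, 2), (0, 1), (1, 1)], [(0, 1), (2, 1), (1, 1), (2, 1)], [(0, 0), (2, 0), (0, 1), (1, 1)], [(1, 1), (0, 1), (1, 2), (2, 2)], [(1, 0), (0, 0), (0, 2), (1, 2)], [(1, 2), (0, 2), (0, 0), (1, 0)], [(0, 1), (2, 1), (1, 1), (2, 1)], [(2, 2), (1, 2), (0, 1), (1, 1)], [(2, 1), (1, 1), (0, 0), (1, 0)], [(2, 1), (2, 1), (1, 1), (0, 0)], [(1, 2), (1, 2), (2, 1), (2, 2)], [(2, 1), (1, 1), (2, 1), (0, 1)], [(0, 1), (2, 1), (2, 1), (0, 1)], [(1, 0), (0, 1), (0, 0), (0, 2)], [(1, 0), (0, 0), (0, 2), (1, 2)], [(0, 2), (0, 2), (2, 0), (0, 1)], [(2, 1), (1, 1), (0, 2), (1, 2)], [(1, 2), (0, 2), (1, 1), (2, 1)], [(0, 0),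 (2, 0), (0, 1), (1, 1)], [(1, 0), (0, 0), (2, 1), (0, 1)], [(1, 1), (0, 1), (1, 2), (2, 2)], [(0, 1), (2, 1), (0, 0), (1, 0)], [(1, 0), (0, 0), (1, 1), (2, 1)], [(2, 1), (2, 1), (0, 2), (2, 0)], [(0, 0), (2, 2), (1, 1), (1, 1)], [(2, 0), (2, 0), (2, 1), (2, 2)], [(1, 0), (0, 0), (0, 0), (1, 0)], [(1, 2), (0, 2), (0, 0), (1, 0)], [(2, 1), (1, 1), (1, 1), (2, 1)], [(1, 1), (0, 1), (1, 0), (2, 0)], [(1, 0), (0, 0), (1, 1), (2, 1)], [(1, 0), (2, 1), (0, 1), (1, 2)], [(0, 1), (2, 1), (0, 0), (1, 0)], [(2, 0), (2, 0), (0, 0), (0, 2)], [(1, 1), (0, 1), (2, 0), (0, 0)], [(1, 2), (0, 2), (1, 1), (2, 1)], [(2, 1), (1, 1), (0, 0), (1, 0)], [(2, 1), (0, 2), (1, 1), (0, 1)], [(1, 0), (0, 0), (2, 1), (0, 1)], [(2, 1), (1, 1), (0, 2), (1, 2)], [(2, 1), (2, 1), (2, 2), (1, 2)],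 [(0, 2), (0, 2), (1, 1), (0, 0)], [(1, 2), (0, 2), (0, 2), (1, 2)], [(1, 2), (1, 2), (0, 0), (0, 2)], [(2, 0), (1, 0), (0, 1), (1, 1)], [(0, 2), (0, 2), (0, 2), (2, 0)]],
    [[(2, 2), (0, 1), (0, 0), (1, 0)], [(0, 0), (1, 2), (2, 2), (0, 0)], [(1, 1), (1, 0), (0, 1), (1, 2)], [(2, 1), (0, 1), (2, 2), (0, 1)], [(0, 1), (0, 1), (1, 1), (2, 0)], [(2, 0), (2, 1), (2, 0), (2, 2)], [(2, 0), (2, 1), (2, 2), (0, 0)], [(0, 1), (0, 1), (2, 0), (2, 2)], [(1, 1), (2, 2), (0, 2), (2, 1)], [(0, 1), (0, 1), (2, 0), (2, 2)], [(0, 1), (0, 1), (2, 2), (0, 0)], [(1, 0), (0, 0), (0, 1), (2, 1)], [(1, 1), (1, 1), (0, 0), (1, 0)], [(2, 2), (0, 2), (1, 2), (1, 2)], [(1, 0), (0, 0), (1, 0), (0, 1)], [(2, 1), (1, 0), (0, 1), (0, 2)], [(1, 1), (2, 2), (1, 2), (1, 2)], [(0, 2), (2, 0), (0,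 2), (2, 1)], [(0, 0), (1, 2), (1, 1), (2, 0)], [(2, 0), (1, 0), (1, 2), (2, 2)], [(1, 0), (0, 0), (2, 1), (1, 2)], [(2, 0), (2, 1), (0, 1), (0, 2)], [(1, 0), (0, 0), (1, 0), (0, 1)], [(2, 2), (0, 2), (1, 2), (1, 2)], [(0, 2), (2, 0), (0, 0), (1, 0)], [(2, 0), (2, 1), (2, 2), (0, 0)], [(1, 0), (0, 0), (0, 2), (2, 1)], [(2, 2), (0, 2), (0, 0), (1, 0)], [(1, 1), (2, 2), (1, 0), (0, 1)], [(0, 2), (2, 0), (1, 2), (1, 2)], [(0, 2), (2, 0), (0, 0), (1, 0)], [(0, 0), (1, 2), (1, 1), (2, 0)], [(2, 2), (0, 2), (1, 0), (0, 1)], [(1, 0), (0, 0), (0, 0), (1, 0)], [(1, 1), (1, 0), (2, 0), (2, 1)], [(2, 1), (1, 0), (1, 1), (2, 0)], [(0, 0), (1, 2), (0, 1), (0, 2)], [(1, 1), (2, 2), (0, 2), (2, 1)], [(2, 1), (1, 0), (0, 1), (0, 2)], [(0, 2), (1, 1), (2, 2), (0, 1)], [(2, 1), (1,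 0), (2, 2), (0, 0)], [(0, 2), (1, 0), (1, 1), (2, 2)], [(0, 0), (1, 2), (2, 0), (2, 2)], [(1, 0), (0, 0), (0, 0), (1, 0)], [(2, 2), (0, 2), (1, 0), (0, 1)], [(1, 1), (2, 2), (1, 2), (1, 2)], [(1, 1), (2, 2), (0, 0), (1, 0)], [(0, 1), (0, 1), (0, 1), (0, 2)], [(0, 2), (2, 0), (1, 0), (0, 1)], [(0, 0), (1, 2), (2, 2), (0, 0)], [(0, 2), (2, 0), (0, 2), (2, 1)], [(0, 1), (0, 1), (1, 1), (2, 0)], [(1, 0), (0, 0), (1, 2), (1, 2)], [(2, 0), (2, 1), (0, 1), (0, 2)], [(1, 1), (0, 2), (0, 2), (2, 1)], [(2, 1), (2, 1), (0, 2), (2, 0)], [(0, 2), (2, 1), (2, 2), (2, 0)], [(2, 0), (2, 1), (0, 1), (0, 2)], [(2, 2), (0, 2), (1, 0), (0, 1)], [(1, 0), (0, 0), (0, 0), (1, 0)], [(0, 2), (2, 0), (0, 2), (2, 1)], [(0, 2), (2, 0), (1, 0), (0, 1)], [(1, 0), (0, 0), (1, 2), (1, 2)], [(0,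 1), (0, 1), (1, 1), (2, 0)], [(0, 1), (0, 1), (0, 1), (0, 2)], [(1, 1), (2, 2), (1, 2), (1, 2)], [(2, 1), (1, 0), (2, 2), (0, 0)], [(2, 1), (0, 2), (1, 0), (2, 1)], [(0, 0), (1, 2), (2, 0), (2, 2)], [(1, 1), (2, 2), (0, 0), (1, 0)], [(1, 1), (1, 0), (1, 0), (2, 2)], [(0, 0), (1, 2), (2, 2), (0, 0)], [(2, 1), (1, 0), (0, 1), (0, 2)], [(2, 1), (1, 0), (1, 1), (2, 0)], [(0, 1), (0, 2), (2, 1), (2, 1)], [(0, 2), (1, 1), (2, 0), (2, 1)], [(1, 1), (1, 0), (2, 2), (0, 1)], [(0, 0), (1, 2), (1, 1), (2, 0)], [(0, 2), (2, 0), (0, 0), (1, 0)], [(1, 1), (2, 2), (0, 2), (2, 1)], [(1, 1), (2, 2), (1, 0), (0, 1)], [(0, 0), (1, 2), (0, 1), (0, 2)], [(0, 2), (2, 0), (1, 2), (1, 2)], [(1, 0), (0, 0), (1, 2), (1, 2)], [(0, 0), (1, 2), (0, 1), (0, 2)], [(1, 1), (2, 2), (0, 0), (1,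 0)], [(2, 2), (0, 2), (0, 0), (1, 0)], [(0, 1), (0, 1), (2, 2), (0, 0)], [(1, 0), (0, 0), (0, 2), (2, 1)], [(0, 2), (1, 1), (0, 1), (1, 2)], [(2, 0), (2, 1), (2, 2), (0, 0)], [(1, 0), (0, 0), (2, 0), (0, 1)], [(2, 0), (2, 1), (2, 0), (2, 2)], [(1, 0), (0, 0), (0, 2), (2, 1)], [(2, 2), (0, 2), (1, 2), (1, 2)], [(1, 0), (0, 0), (1, 0), (0, 1)], [(2, 1), (1, 0), (1, 1), (2, 0)], [(0, 2), (2, 0), (1, 0), (0, 1)], [(2, 2), (0, 2), (0, 0), (1, 0)], [(1, 0), (0, 0), (0, 0), (1, 0)], [(0, 2), (2, 0), (1, 2), (1, 2)], [(0, 1), (0, 1), (0, 1), (0, 2)], [(0, 0), (1, 2), (2, 0), (2, 2)], [(1, 1), (2, 2), (1, 0), (0, 1)], [(1, 0), (2, 1), (1, 2), (2, 0)], [(2, 0), (2, 1), (2, 0), (2, 2)], [(2, 1), (1, 0), (2, 2), (0, 0)], [(2, 1), (0, 1), (2, 0), (2, 1)], [(0, 1), (0, 1), (2,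 2), (0, 0)], [(0, 2), (1, 0), (0, 0), (1, 0)], [(0, 1), (0, 1), (2, 0), (2, 2)], [(2, 1), (0, 1), (0, 1), (1, 2)]],
    [[(1, 2), (2, 2), (2, 2), (2, 2)], [(2, 1), (1, 2), (0, 0), (1, 0)], [(2, 1), (1, 1), (2, 1), (0, 0)], [(1, 2), (2, 2), (1, 0), (2, 0)], [(1, 2), (2, 0), (2, 1), (2, 1)], [(0, 1), (2, 0), (0, 1), (0, 1)], [(1, 0), (0, 0), (0, 0), (1, 0)], [(1, 1), (1, 0), (0, 1), (2, 0)], [(2, 2), (2, 2), (2, 0), (1, 1)], [(1, 2), (2, 0), (1, 0), (1, 2)], [(1, 0), (0, 0), (2, 1), (2, 1)], [(1, 1), (1, 2), (0, 0), (0, 2)], [(2, 2), (2, 1), (2, 2), (2, 2)], [(0, 0), (2, 1), (1, 1), (1, 1)], [(2, 1), (1, 2), (2, 1), (2, 1)], [(1, 1), (1, 0), (1, 1), (2, 2)], [(0, 1), (1, 1), (0, 0), (1, 0)], [(2, 0), (2, 0), (2, 0), (0, 1)], [(2, 0), (1, 1), (1, 0), (1, 2)], [(0,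 1), (1, 1), (0, 2), (1, 2)], [(1, 1), (1, 2), (2, 1), (0, 0)], [(1, 0), (0, 0), (2, 2), (0, 1)], [(0, 0), (0, 1), (2, 0), (1, 1)], [(2, 1), (1, 2), (1, 0), (1, 2)], [(0, 1), (1, 1), (0, 0), (1, 0)], [(1, 2), (1, 0), (0, 0), (0, 2)], [(1, 2), (2, 0), (2, 1), (2, 1)], [(1, 0), (0, 0), (1, 0), (1, 2)], [(1, 0), (0, 0), (2, 2), (0, 1)], [(1, 2), (2, 0), (0, 0), (1, 0)], [(2, 0), (0, 2), (2, 0), (1, 1)], [(1, 1), (1, 0), (0, 2), (0, 0)], [(1, 0), (0, 0), (2, 1), (2, 1)], [(2, 1), (1, 2), (1, 0), (1, 2)], [(2, 1), (1, 1), (0, 0), (0, 2)], [(0, 1), (1, 1), (2, 1), (2, 1)], [(2, 1), (1, 2), (2, 2), (0, 1)], [(0, 1), (1, 1), (2, 2), (0, 1)], [(2, 1), (1, 2), (0, 0), (1, 0)], [(2, 2), (2, 1), (1, 0), (2, 0)], [(2, 2), (1, 0), (0, 0), (0, 2)], [(2, 1), (1, 2), (2, 2), (0,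 1)], [(1, 1), (1, 0), (0, 1), (2, 0)], [(1, 2), (2, 0), (0, 0), (1, 0)], [(0, 0), (2, 1), (2, 1), (1, 1)], [(1, 0), (0, 0), (1, 0), (1, 2)], [(2, 2), (2, 2), (2, 0), (1, 1)], [(1, 0), (0, 0), (0, 0), (1, 0)], [(0, 1), (1, 1), (2, 2), (0, 1)], [(0, 1), (1, 1), (2, 1), (2, 1)], [(2, 0), (0, 2), (2, 0), (1, 1)], [(1, 1), (1, 0), (0, 2), (0, 0)], [(0, 0), (0, 1), (2, 0), (1, 1)], [(1, 1), (1, 0), (1, 1), (2, 2)], [(2, 1), (1, 2), (2, 1), (2, 1)], [(1, 2), (2, 0), (1, 0), (1, 2)], [(1, 1), (1, 0), (0, 2), (0, 0)], [(1, 2), (2, 0), (0, 0), (1, 0)], [(2, 1), (1, 2), (2, 2), (0, 1)], [(0, 0), (0, 1), (2, 0), (1, 1)], [(0, 1), (1, 1), (2, 1), (2, 1)], [(2, 0), (0, 2), (2, 0), (1, 1)], [(1, 2), (2, 0), (1, 0), (1, 2)], [(1, 0), (0, 0), (1, 0), (1, 2)], [(1, 1), (1, 0), (1,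 1), (2, 2)], [(2, 2), (2, 2), (2, 0), (1, 1)], [(2, 1), (1, 2), (2, 1), (2, 1)], [(0, 0), (2, 1), (1, 2), (1, 1)], [(0, 1), (1, 1), (2, 2), (0, 1)], [(1, 0), (0, 0), (0, 0), (1, 0)], [(1, 1), (1, 0), (0, 1), (2, 0)], [(1, 1), (1, 0), (0, 0), (0, 2)], [(0, 1), (1, 1), (2, 2), (0, 1)], [(2, 1), (1, 2), (1, 0), (1, 2)], [(1, 0), (0, 0), (2, 2), (0, 1)], [(2, 2), (2, 1), (0, 0), (0, 2)], [(2, 1), (1, 1), (1, 0), (2, 0)], [(2, 1), (1, 2), (2, 1), (2, 1)], [(1, 2), (2, 0), (1, 0), (1, 2)], [(1, 0), (0, 0), (2, 1), (2, 1)], [(0, 1), (1, 1), (2, 1), (2, 1)], [(1, 1), (1, 0), (1, 1), (2, 2)], [(2, 0), (0, 2), (2, 0), (1, 1)], [(2, 1), (1, 2), (0, 0), (1, 0)], [(0, 1), (1, 1), (0, 0), (1, 0)], [(0, 2), (1, 1), (0, 1), (1, 2)], [(2, 1), (1, 2), (0, 0), (1, 0)], [(2, 1), (1,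 0), (0, 0), (0, 2)], [(0, 0), (0, 1), (2, 0), (1, 1)], [(2, 2), (2, 1), (2, 1), (0, 0)], [(1, 2), (2, 0), (2, 1), (2, 1)], [(1, 1), (1, 2), (1, 0), (2, 0)], [(1, 0), (0, 0), (1, 0), (1, 2)], [(2, 1), (1, 2), (2, 2), (0, 1)], [(1, 0), (0, 0), (0, 0), (1, 0)], [(0, 2), (2, 0), (0, 2), (0, 1)], [(1, 1), (1, 0), (0, 2), (0, 0)], [(1, 2), (2, 0), (2, 1), (2, 1)], [(0, 0), (2, 1), (2, 2), (1, 1)], [(1, 1), (1, 2), (2, 2), (2, 2)], [(1, 0), (1, 1), (2, 0), (1, 2)], [(1, 0), (2, 0), (1, 0), (0, 1)], [(2, 1), (1, 2), (1, 0), (1, 2)], [(2, 2), (2, 2), (2, 0), (1, 1)], [(1, 0), (0, 0), (2, 1), (2, 1)], [(1, 1), (1, 0), (0, 1), (2, 0)], [(0, 1), (1, 1), (0, 0), (1, 0)], [(1, 2), (2, 2), (0, 0), (0, 2)], [(1, 2), (2, 0), (0, 0), (1, 0)], [(2, 1), (1, 1), (2, 2), (2, 2)], [(1,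 0), (0, 0), (2, 2), (0, 1)], [(1, 2), (2, 2), (2, 1), (0, 0)]]]

set_option maxRecDepth 20000 in
/-- The isotropic points: vector, transvection, parent, scalar. -/
def pointData : List (List (ℕ × ℕ) × ℕ × ℕ × (ℕ × ℕ)) :=
  [
    ([(0, 0), (0, 0), (1, 0), (1, 1)], 0, 0, (1, 0)),
    ([(1, 0), (1, 0), (2, 0), (0, 0)], 1, 0, (0, 2)),
    ([(1, 0), (1, 1), (2, 1), (0, 2)], 2, 0, (0, 1)),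
    ([(1, 0), (0, 1), (1, 2), (2, 2)], 3, 0, (2, 2)),
    ([(1, 0), (1, 0), (2, 2), (1, 2)], 0, 1, (1, 0)),
    ([(1, 0), (1, 0), (2, 1), (2, 1)], 1, 1, (2, 0)),
    ([(0, 0), (1, 0), (2, 0), (0, 1)], 2, 1, (0, 2)),
    ([(1, 0), (2, 1), (2, 2), (2, 0)], 3, 1, (2, 1)),
    ([(1, 0), (1, 1), (2, 2), (2, 0)], 0, 2, (1, 0)),
    ([(1, 0), (1, 1), (2, 0), (1, 1)], 2, 2, (2, 0)),
    ([(1, 0), (2, 1), (1, 2), (0, 2)], 3, 2, (2, 0)),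
    ([(1, 0), (0, 1), (2, 1), (1, 2)], 0, 3, (1, 0)),
    ([(1, 0), (2, 1), (2, 0), (1, 1)], 1, 3, (0, 1)),
    ([(0, 0), (1, 0), (1, 0), (0, 1)], 2, 3, (2, 0)),
    ([(1, 0), (1, 1), (0, 2), (2, 1)], 3, 4, (1, 2)),
    ([(1, 0), (1, 2), (2, 0), (2, 2)], 2, 5, (2, 0)),
    ([(0, 0), (1, 0), (2, 0), (0, 2)], 3, 5, (1, 2)),
    ([(0, 0), (1, 0), (1, 0), (2, 0)], 0, 6, (1, 0)),
    ([(1, 0), (1, 2), (2, 1), (1, 0)], 2, 6, (0, 2)),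
    ([(1, 0), (2, 0), (1, 1), (1, 1)], 3, 6, (1, 2)),
    ([(1, 0), (2, 0), (2, 2), (2, 2)], 1, 7, (1, 1)),
    ([(1, 0), (2, 2), (2, 2), (2, 0)], 2, 7, (2, 1)),
    ([(1, 0), (1, 2), (0, 2), (2, 2)], 3, 7, (1, 2)),
    ([(1, 0), (0, 2), (1, 2), (2, 1)], 3, 8, (0, 2)),
    ([(1, 0), (2, 2), (1, 2), (0, 1)], 3, 9, (1, 1)),
    ([(1, 0), (2, 1), (0, 2), (2, 1)], 0, 10, (1, 0)),
    ([(1, 0), (1, 2), (1, 1), (0, 1)], 1, 10, (2, 1)),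
    ([(1, 0), (2, 2), (1, 1), (1, 0)], 2, 10, (2, 1)),
    ([(0, 0), (1, 0), (2, 1), (0, 0)], 3, 10, (2, 0)),
    ([(1, 0), (0, 1), (0, 0), (0, 2)], 0, 11, (1, 0)),
    ([(1, 0), (2, 2), (2, 0), (1, 2)], 1, 11, (2, 0)),
    ([(1, 0), (2, 0), (0, 0), (1, 0)], 2, 11, (1, 1)),
    ([(1, 0), (2, 1), (2, 1), (0, 2)], 0, 12, (1, 0)),
    ([(1, 0), (1, 2), (1, 0), (2, 1)], 1, 12, (2, 1)),
    ([(1, 0), (0, 2), (1, 1), (2, 1)], 2, 12, (1, 1)),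
    ([(0, 0), (1, 0), (0, 2), (0, 2)], 0, 13, (1, 0)),
    ([(1, 0), (2, 0), (2, 2), (1, 1)], 3, 13, (1, 2)),
    ([(1, 0), (1, 1), (2, 2), (1, 0)], 0, 14, (1, 0)),
    ([(1, 0), (1, 1), (1, 1), (0, 2)], 2, 14, (1, 2)),
    ([(1, 0), (0, 0), (2, 0), (2, 0)], 3, 14, (0, 1)),
    ([(1, 0), (1, 0), (0, 1), (0, 0)], 3, 15, (0, 1)),
    ([(0, 0), (1, 0), (0, 1), (0, 1)], 0, 16, (1, 0)),
    ([(1, 0), (0, 0), (0, 2), (1, 0)], 1, 16, (2, 0)),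
    ([(1, 0), (0, 0), (0, 0), (1, 1)], 2, 16, (1, 2)),
    ([(1, 0), (2, 2), (1, 2), (1, 0)], 3, 16, (1, 1)),
    ([(0, 0), (1, 0), (0, 0), (1, 2)], 0, 17, (1, 0)),
    ([(1, 0), (2, 1), (2, 0), (1, 2)], 3, 17, (2, 0)),
    ([(1, 0), (2, 0), (0, 1), (0, 0)], 0, 19, (1, 0)),
    ([(1, 0), (2, 1), (2, 0), (2, 1)], 1, 19, (2, 1)),
    ([(1, 0), (1, 2), (2, 2), (2, 0)], 3, 19, (2, 0)),
    ([(1, 0), (2, 0), (0, 2), (0, 0)], 0, 20, (1, 0)),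
    ([(1, 0), (0, 2), (2, 2), (2, 1)], 2, 20, (2, 0)),
    ([(1, 0), (2, 2), (2, 0), (1, 1)], 0, 21, (1, 0)),
    ([(1, 0), (0, 2), (0, 0), (0, 1)], 0, 23, (1, 0)),
    ([(1, 0), (2, 2), (2, 1), (2, 0)], 1, 23, (0, 2)),
    ([(1, 0), (1, 2), (0, 1), (1, 2)], 2, 23, (1, 1)),
    ([(1, 0), (1, 1), (1, 0), (2, 2)], 1, 24, (2, 2)),
    ([(1, 0), (0, 2), (2, 1), (1, 1)], 2, 24, (0, 2)),
    ([(1, 0), (2, 0), (1, 1), (1, 2)], 3, 24, (0, 2)),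
    ([(1, 0), (2, 1), (2, 2), (1, 0)], 0, 25, (1, 0)),
    ([(1, 0), (0, 0), (0, 1), (1, 0)], 1, 25, (2, 2)),
    ([(1, 0), (1, 0), (1, 1), (2, 2)], 3, 25, (1, 1)),
    ([(1, 0), (1, 2), (2, 0), (2, 1)], 0, 26, (1, 0)),
    ([(1, 0), (0, 1), (2, 1), (1, 1)], 1, 26, (1, 2)),
    ([(1, 0), (2, 0), (2, 1), (2, 1)], 2, 26, (1, 2)),
    ([(1, 0), (2, 2), (1, 0), (2, 2)], 0, 27, (1, 0)),
    ([(1, 0), (1, 2), (2, 1), (0, 1)], 2, 27, (1, 2)),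
    ([(1, 0), (1, 0), (2, 2), (2, 1)], 3, 27, (2, 0)),
    ([(1, 0), (2, 1), (0, 2), (1, 2)], 1, 28, (2, 1)),
    ([(1, 0), (1, 0), (0, 0), (2, 0)], 2, 28, (0, 1)),
    ([(0, 0), (1, 0), (1, 2), (0, 0)], 1, 30, (1, 2)),
    ([(1, 0), (1, 2), (0, 1), (2, 2)], 2, 30, (1, 2)),
    ([(1, 0), (1, 0), (1, 2), (1, 2)], 2, 32, (0, 1)),
    ([(1, 0), (1, 2), (2, 1), (2, 0)], 0, 33, (1, 0)),
    ([(1, 0), (2, 1), (0, 0), (0, 0)], 2, 33, (0, 1)),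
    ([(1, 0), (2, 2), (0, 1), (1, 1)], 3, 33, (0, 2)),
    ([(1, 0), (0, 2), (1, 2), (1, 2)], 0, 34, (1, 0)),
    ([(1, 0), (1, 2), (2, 0), (1, 2)], 3, 34, (2, 2)),
    ([(1, 0), (2, 2), (2, 2), (0, 1)], 1, 36, (2, 2)),
    ([(1, 0), (1, 2), (1, 1), (2, 0)], 3, 36, (2, 0)),
    ([(1, 0), (1, 1), (1, 2), (0, 2)], 0, 37, (1, 0)),
    ([(1, 0), (1, 1), (2, 2), (0, 2)], 2, 37, (1, 1)),
    ([(1, 0), (1, 1), (1, 0), (1, 2)], 2, 38, (0, 1)),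
    ([(1, 0), (2, 1), (2, 2), (0, 2)], 3, 38, (2, 0)),
    ([(1, 0), (0, 0), (1, 1), (0, 0)], 0, 39, (1, 0)),
    ([(1, 0), (1, 0), (2, 1), (2, 2)], 0, 40, (1, 0)),
    ([(1, 0), (1, 0), (1, 2), (2, 2)], 1, 40, (2, 1)),
    ([(1, 0), (0, 1), (1, 1), (2, 2)], 2, 40, (0, 1)),
    ([(1, 0), (2, 1), (2, 1), (2, 0)], 3, 40, (2, 1)),
    ([(1, 0), (2, 0), (1, 2), (1, 1)], 3, 41, (1, 2)),
    ([(1, 0), (0, 2), (2, 1), (2, 1)], 2, 42, (0, 1)),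
    ([(1, 0), (0, 0), (0, 2), (2, 0)], 0, 43, (1, 0)),
    ([(1, 0), (2, 2), (1, 1), (0, 2)], 2, 43, (2, 0)),
    ([(0, 0), (1, 0), (0, 0), (1, 1)], 3, 43, (0, 2)),
    ([(1, 0), (1, 0), (1, 1), (1, 2)], 2, 44, (2, 1)),
    ([(1, 0), (0, 0), (0, 0), (2, 1)], 3, 45, (0, 1)),
    ([(1, 0), (2, 1), (1, 2), (1, 0)], 0, 46, (1, 0)),
    ([(1, 0), (2, 2), (1, 0), (2, 1)], 2, 46, (2, 1)),
    ([(1, 0), (2, 0), (2, 1), (2, 2)], 0, 47, (1, 0)),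
    ([(1, 0), (2, 2), (1, 0), (1, 2)], 3, 47, (0, 1)),
    ([(1, 0), (2, 1), (0, 2), (1, 1)], 0, 48, (1, 0)),
    ([(1, 0), (1, 1), (0, 1), (2, 2)], 1, 48, (1, 2)),
    ([(1, 0), (1, 2), (2, 0), (1, 1)], 0, 49, (1, 0)),
    ([(0, 0), (1, 0), (0, 0), (2, 1)], 1, 49, (0, 2)),
    ([(1, 0), (0, 1), (0, 0), (0, 1)], 2, 50, (2, 1)),
    ([(1, 0), (0, 2), (1, 1), (2, 2)], 0, 51, (1, 0)),
    ([(1, 0), (1, 2), (1, 0), (1, 2)], 3, 51, (2, 2)),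
    ([(1, 0), (2, 2), (2, 1), (0, 2)], 0, 52, (1, 0)),
    ([(1, 0), (0, 0), (2, 1), (0, 0)], 3, 52, (2, 2)),
    ([(1, 0), (2, 2), (0, 2), (2, 2)], 0, 54, (1, 0)),
    ([(0, 0), (1, 0), (1, 1), (0, 0)], 2, 54, (1, 1)),
    ([(1, 0), (1, 1), (1, 2), (0, 1)], 0, 56, (1, 0)),
    ([(1, 0), (0, 2), (2, 0), (0, 0)], 1, 56, (1, 1)),
    ([(1, 0), (1, 1), (0, 1), (2, 1)], 2, 56, (2, 0)),
    ([(1, 0), (0, 2), (2, 2), (1, 1)], 1, 59, (2, 0)),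
    ([(1, 0), (0, 0), (0, 2), (0, 1)], 0, 60, (1, 0)),
    ([(1, 0), (2, 2), (2, 1), (0, 1)], 1, 60, (1, 1)),
    ([(1, 0), (2, 1), (1, 0), (1, 1)], 3, 60, (0, 1)),
    ([(0, 0), (0, 0), (1, 0), (1, 2)], 1, 61, (2, 2)),
    ([(1, 0), (1, 2), (0, 2), (1, 1)], 0, 62, (1, 0)),
    ([(1, 0), (2, 2), (0, 2), (1, 1)], 3, 62, (0, 2)),
    ([(1, 0), (0, 1), (1, 2), (2, 1)], 0, 63, (1, 0)),
    ([(1, 0), (1, 2), (1, 2), (0, 1)], 2, 63, (0, 1)),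
    ([(1, 0), (0, 1), (1, 1), (2, 1)], 3, 63, (0, 1)),
    ([(1, 0), (2, 0), (2, 0), (0, 0)], 0, 64, (1, 0)),
    ([(1, 0), (0, 0), (1, 2), (0, 0)], 2, 64, (0, 1)),
    ([(1, 0), (2, 1), (1, 1), (1, 0)], 1, 65, (0, 2)),
    ([(1, 0), (1, 0), (2, 2), (2, 2)], 1, 67, (1, 2)),
    ([(1, 0), (1, 0), (2, 1), (1, 1)], 2, 68, (0, 1)),
    ([(1, 0), (2, 2), (1, 2), (2, 0)], 2, 70, (2, 1)),
    ([(1, 0), (1, 2), (2, 2), (0, 2)], 0, 71, (1, 0)),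
    ([(1, 0), (1, 0), (1, 0), (0, 0)], 3, 71, (0, 1)),
    ([(1, 0), (2, 0), (1, 1), (2, 1)], 2, 72, (2, 1)),
    ([(1, 0), (1, 1), (1, 0), (2, 1)], 3, 72, (1, 2)),
    ([(1, 0), (2, 2), (1, 1), (2, 0)], 2, 73, (2, 2)),
    ([(1, 0), (0, 0), (0, 0), (2, 2)], 3, 74, (0, 2)),
    ([(0, 0), (1, 0), (0, 2), (0, 1)], 2, 75, (1, 1)),
    ([(1, 0), (0, 2), (1, 0), (0, 0)], 0, 76, (1, 0)),
    ([(1, 0), (1, 1), (2, 2), (0, 1)], 3, 76, (0, 1)),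
    ([(1, 0), (1, 2), (1, 2), (1, 0)], 0, 77, (1, 0)),
    ([(1, 0), (2, 0), (1, 2), (1, 2)], 1, 77, (0, 2)),
    ([(1, 0), (1, 1), (1, 2), (2, 0)], 3, 77, (1, 1)),
    ([(1, 0), (2, 1), (1, 1), (0, 2)], 3, 81, (2, 0)),
    ([(1, 0), (2, 1), (1, 0), (1, 2)], 0, 83, (1, 0)),
    ([(1, 0), (1, 0), (2, 1), (1, 2)], 2, 84, (1, 2)),
    ([(1, 0), (1, 0), (1, 1), (1, 1)], 0, 85, (1, 0)),
    ([(1, 0), (1, 0), (1, 1), (2, 1)], 1, 85, (2, 2)),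
    ([(0, 0), (1, 0), (1, 0), (1, 0)], 2, 85, (0, 2)),
    ([(1, 0), (1, 2), (2, 2), (0, 1)], 3, 85, (0, 2)),
    ([(1, 0), (1, 0), (0, 0), (0, 1)], 1, 86, (1, 2)),
    ([(1, 0), (1, 2), (0, 2), (2, 1)], 2, 86, (2, 0)),
    ([(1, 0), (0, 1), (0, 0), (2, 0)], 0, 87, (1, 0)),
    ([(1, 0), (0, 0), (2, 0), (0, 2)], 2, 87, (2, 1)),
    ([(1, 0), (0, 1), (2, 2), (1, 2)], 3, 87, (2, 0)),
    ([(1, 0), (2, 1), (0, 2), (2, 2)], 0, 88, (1, 0)),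
    ([(1, 0), (0, 1), (0, 2), (0, 0)], 1, 88, (0, 2)),
    ([(1, 0), (0, 0), (1, 0), (2, 0)], 2, 88, (1, 2)),
    ([(1, 0), (1, 2), (1, 0), (2, 2)], 2, 89, (2, 2)),
    ([(1, 0), (2, 1), (0, 1), (1, 1)], 2, 90, (2, 1)),
    ([(1, 0), (1, 2), (0, 2), (1, 2)], 3, 90, (2, 2)),
    ([(1, 0), (0, 0), (0, 1), (0, 2)], 0, 91, (1, 0)),
    ([(1, 0), (1, 2), (1, 2), (0, 2)], 3, 92, (0, 1)),
    ([(0, 0), (1, 0), (0, 2), (2, 0)], 0, 93, (1, 0)),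
    ([(1, 0), (0, 1), (2, 2), (2, 2)], 1, 93, (1, 1)),
    ([(1, 0), (0, 2), (0, 0), (2, 0)], 3, 93, (0, 2)),
    ([(1, 0), (1, 0), (2, 2), (1, 1)], 0, 94, (1, 0)),
    ([(1, 0), (0, 2), (2, 1), (2, 2)], 2, 94, (1, 2)),
    ([(1, 0), (0, 0), (1, 0), (0, 2)], 0, 95, (1, 0)),
    ([(1, 0), (2, 1), (2, 0), (2, 2)], 1, 95, (1, 2)),
    ([(1, 0), (2, 1), (1, 2), (0, 1)], 2, 95, (2, 2)),
    ([(1, 0), (0, 2), (0, 0), (1, 0)], 3, 95, (2, 0)),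
    ([(1, 0), (2, 2), (2, 0), (2, 2)], 1, 96, (0, 1)),
    ([(0, 0), (1, 0), (2, 0), (2, 0)], 2, 96, (1, 0)),
    ([(1, 0), (2, 2), (0, 1), (2, 2)], 3, 96, (2, 2)),
    ([(1, 0), (2, 1), (2, 2), (0, 1)], 3, 97, (1, 2)),
    ([(1, 0), (0, 0), (2, 0), (1, 0)], 3, 98, (1, 2)),
    ([(1, 0), (0, 0), (0, 1), (0, 1)], 2, 99, (2, 0)),
    ([(1, 0), (1, 1), (1, 1), (1, 0)], 3, 99, (2, 1)),
    ([(1, 0), (2, 1), (1, 1), (0, 1)], 0, 100, (1, 0)),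
    ([(1, 0), (2, 2), (0, 0), (0, 0)], 2, 100, (2, 1)),
    ([(1, 0), (2, 0), (1, 2), (2, 2)], 3, 100, (2, 1)),
    ([(0, 0), (1, 0), (0, 1), (2, 0)], 3, 101, (1, 0)),
    ([(1, 0), (1, 2), (2, 1), (0, 2)], 0, 102, (1, 0)),
    ([(1, 0), (0, 2), (1, 1), (1, 2)], 3, 102, (1, 2)),
    ([(0, 0), (1, 0), (1, 0), (0, 2)], 0, 103, (1, 0)),
    ([(1, 0), (2, 2), (2, 0), (2, 1)], 2, 104, (1, 2)),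
    ([(1, 0), (0, 1), (0, 0), (1, 0)], 3, 104, (1, 1)),
    ([(1, 0), (2, 2), (0, 2), (2, 1)], 3, 105, (2, 1)),
    ([(1, 0), (1, 1), (2, 1), (2, 0)], 3, 106, (1, 1)),
    ([(1, 0), (1, 2), (1, 1), (0, 2)], 3, 107, (0, 1)),
    ([(1, 0), (0, 0), (1, 0), (0, 1)], 0, 108, (1, 0)),
    ([(1, 0), (0, 2), (1, 2), (2, 2)], 2, 108, (0, 1)),
    ([(1, 0), (1, 2), (0, 1), (2, 1)], 3, 108, (1, 1)),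
    ([(1, 0), (1, 0), (0, 0), (0, 2)], 2, 109, (2, 1)),
    ([(1, 0), (0, 2), (1, 1), (1, 1)], 3, 109, (1, 1)),
    ([(0, 0), (1, 0), (0, 2), (1, 0)], 0, 110, (1, 0)),
    ([(0, 0), (0, 0), (1, 0), (2, 2)], 2, 111, (2, 0)),
    ([(1, 0), (0, 2), (2, 2), (1, 2)], 0, 112, (1, 0)),
    ([(0, 0), (1, 0), (0, 0), (2, 2)], 1, 114, (2, 2)),
    ([(1, 0), (2, 2), (0, 1), (1, 2)], 0, 116, (1, 0)),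
    ([(1, 0), (2, 0), (2, 2), (1, 2)], 3, 116, (0, 2)),
    ([(1, 0), (2, 0), (1, 1), (2, 2)], 3, 117, (2, 1)),
    ([(0, 0), (0, 0), (1, 0), (2, 1)], 0, 118, (0, 1)),
    ([(1, 0), (1, 1), (1, 2), (1, 0)], 1, 119, (2, 0)),
    ([(1, 0), (2, 1), (2, 1), (0, 1)], 2, 119, (0, 1)),
    ([(1, 0), (0, 2), (2, 1), (1, 2)], 3, 119, (1, 2)),
    ([(1, 0), (2, 2), (1, 1), (0, 1)], 0, 120, (1, 0)),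
    ([(1, 0), (1, 2), (1, 1), (1, 0)], 2, 120, (1, 2)),
    ([(1, 0), (0, 0), (2, 2), (0, 0)], 3, 120, (2, 2)),
    ([(1, 0), (0, 1), (2, 0), (0, 0)], 3, 121, (2, 1)),
    ([(1, 0), (2, 1), (0, 1), (2, 1)], 3, 122, (2, 2)),
    ([(1, 0), (0, 1), (1, 2), (1, 2)], 0, 123, (1, 0)),
    ([(1, 0), (2, 1), (1, 0), (2, 2)], 1, 124, (2, 1)),
    ([(1, 0), (1, 0), (0, 2), (0, 0)], 0, 127, (1, 0)),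
    ([(1, 0), (1, 0), (1, 2), (2, 1)], 0, 128, (1, 0)),
    ([(1, 0), (2, 1), (1, 1), (2, 0)], 3, 131, (2, 1)),
    ([(1, 0), (2, 1), (2, 1), (1, 0)], 1, 133, (2, 2)),
    ([(1, 0), (2, 1), (1, 2), (2, 0)], 2, 134, (1, 1)),
    ([(1, 0), (1, 1), (0, 1), (1, 1)], 1, 135, (0, 1)),
    ([(1, 0), (2, 0), (1, 0), (0, 0)], 2, 135, (0, 2)),
    ([(1, 0), (2, 0), (0, 0), (2, 0)], 3, 135, (2, 2)),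
    ([(1, 0), (2, 0), (2, 1), (1, 1)], 3, 136, (1, 2)),
    ([(1, 0), (1, 2), (0, 1), (1, 1)], 3, 138, (2, 1)),
    ([(1, 0), (1, 1), (0, 2), (1, 1)], 1, 139, (2, 0)),
    ([(1, 0), (0, 1), (1, 1), (1, 1)], 1, 141, (2, 1)),
    ([(1, 0), (1, 1), (1, 1), (2, 0)], 2, 141, (2, 1)),
    ([(0, 0), (1, 0), (2, 2), (0, 0)], 3, 142, (2, 0)),
    ([(1, 0), (2, 1), (0, 1), (2, 2)], 0, 143, (1, 0)),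
    ([(1, 0), (1, 1), (2, 0), (2, 2)], 3, 143, (2, 0)),
    ([(1, 0), (0, 1), (1, 2), (1, 1)], 2, 144, (0, 1)),
    ([(1, 0), (1, 1), (2, 0), (2, 1)], 3, 144, (1, 2)),
    ([(1, 0), (1, 0), (0, 0), (1, 0)], 1, 145, (2, 0)),
    ([(1, 0), (2, 1), (0, 1), (1, 2)], 2, 145, (0, 2)),
    ([(1, 0), (1, 0), (1, 2), (1, 1)], 1, 146, (1, 1)),
    ([(1, 0), (0, 1), (1, 0), (0, 0)], 2, 146, (0, 1)),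
    ([(0, 0), (1, 0), (0, 1), (0, 2)], 3, 146, (1, 2)),
    ([(1, 0), (2, 1), (1, 0), (2, 1)], 3, 148, (2, 2)),
    ([(1, 0), (1, 2), (2, 2), (1, 0)], 0, 150, (1, 0)),
    ([(1, 0), (2, 2), (1, 0), (1, 1)], 3, 150, (0, 2)),
    ([(1, 0), (0, 1), (2, 2), (2, 1)], 0, 151, (1, 0)),
    ([(1, 0), (0, 1), (2, 1), (2, 1)], 0, 153, (1, 0)),
    ([(1, 0), (0, 0), (0, 0), (1, 2)], 0, 156, (1, 0)),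
    ([(1, 0), (0, 0), (2, 0), (0, 1)], 2, 157, (1, 1)),
    ([(1, 0), (0, 1), (1, 1), (1, 2)], 1, 159, (1, 2)),
    ([(1, 0), (0, 0), (1, 0), (1, 0)], 2, 159, (1, 1)),
    ([(1, 0), (2, 2), (1, 2), (0, 2)], 3, 160, (1, 2)),
    ([(1, 0), (2, 2), (2, 2), (0, 2)], 1, 163, (2, 0)),
    ([(1, 0), (0, 2), (0, 1), (0, 0)], 2, 169, (1, 1)),
    ([(1, 0), (0, 2), (2, 2), (2, 2)], 3, 169, (0, 1)),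
    ([(1, 0), (0, 2), (1, 2), (1, 1)], 3, 171, (1, 1)),
    ([(1, 0), (2, 0), (2, 1), (1, 2)], 0, 180, (1, 0)),
    ([(1, 0), (1, 1), (2, 0), (1, 2)], 1, 183, (2, 1)),
    ([(0, 0), (1, 0), (2, 0), (1, 0)], 0, 184, (1, 0)),
    ([(1, 0), (2, 2), (2, 1), (1, 0)], 3, 184, (1, 1)),
    ([(1, 0), (1, 2), (1, 2), (2, 0)], 1, 186, (2, 2)),
    ([(1, 0), (2, 2), (2, 2), (1, 0)], 0, 187, (1, 0)),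
    ([(1, 0), (1, 1), (0, 2), (2, 2)], 0, 188, (1, 0)),
    ([(1, 0), (2, 0), (1, 2), (2, 1)], 1, 188, (0, 1)),
    ([(1, 0), (0, 0), (0, 2), (0, 2)], 3, 189, (2, 1)),
    ([(1, 0), (0, 1), (2, 1), (2, 2)], 1, 190, (2, 2)),
    ([(1, 0), (0, 2), (0, 0), (0, 2)], 3, 193, (2, 2)),
    ([(0, 0), (1, 0), (0, 1), (1, 0)], 2, 194, (2, 1)),
    ([(1, 0), (1, 1), (0, 2), (1, 2)], 2, 196, (1, 0)),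
    ([(1, 0), (1, 1), (2, 1), (0, 1)], 3, 197, (0, 1)),
    ([(1, 0), (1, 2), (0, 0), (0, 0)], 3, 198, (2, 1)),
    ([(1, 0), (1, 1), (2, 1), (1, 0)], 3, 199, (2, 1)),
    ([(1, 0), (1, 1), (1, 0), (1, 1)], 3, 200, (2, 2)),
    ([(1, 0), (1, 2), (1, 0), (1, 1)], 1, 201, (0, 1)),
    ([(1, 0), (1, 1), (1, 1), (0, 1)], 3, 205, (0, 1)),
    ([(1, 0), (0, 0), (0, 1), (2, 0)], 0, 208, (1, 0)),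
    ([(1, 0), (2, 0), (0, 0), (0, 1)], 1, 216, (1, 1)),
    ([(1, 0), (2, 2), (0, 2), (1, 2)], 3, 219, (0, 1)),
    ([(1, 0), (2, 0), (2, 2), (2, 1)], 0, 220, (1, 0)),
    ([(1, 0), (0, 1), (0, 1), (0, 0)], 0, 224, (1, 0)),
    ([(1, 0), (2, 2), (0, 1), (2, 1)], 2, 233, (1, 1)),
    ([(1, 0), (0, 1), (2, 2), (1, 1)], 3, 234, (1, 2)),
    ([(1, 0), (1, 1), (0, 0), (0, 0)], 3, 241, (0, 2)),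
    ([(1, 0), (0, 2), (0, 2), (0, 0)], 2, 243, (2, 2)),
    ([(1, 0), (2, 0), (0, 0), (0, 2)], 0, 250, (1, 0)),
    ([(1, 0), (1, 1), (0, 1), (1, 2)], 2, 256, (2, 2))]

/-- Indices of a basis among the triangle, the base point and the 112 vectors. -/
def spanIndex : List ℕ :=
  [
    0,
    1,
    2,
    3,
    4,
    5,
    6,
    7,
    8,
    9,
    10,
    11,
    12,
    13,
    14,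
    15,
    16,
    17,
    18,
    19,
    22,
    23,
    31,
    43]

/-- Scaled unit vectors in that basis. -/
def spanCoef : List (List ℤ) :=
  [
    [24, 15, -6, 8, 5, -1, 7, 1, -11, 4, 5, -3, 6, -3, -15, 3, -2, 4, -16, 2, 0, -12, -12, -12],
    [-24, 3, 6, -8, -5, 1, -7, -1, 11, -4, -5, 3, -6, 3, 15, -3, 2, -4, 16, -2, 0, 12, 12, 12],
    [-24, -15, 24, -8, -5, 1, -7, -1, 11, -4, -5, 3, -6, 3, 15, -3, 2, -4, 16, -2, 0, 12, 12, 12],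
    [0, -3, 0, -24, -3, -15, -15, 21, 9, 0, -3, 9, 6, -3, 15, -27, -6, -24, 24, 6, 0, 0, 0, 36],
    [0, -3, 0, 12, -3, 3, 3, -33, 9, 0, -21, 9, -30, -21, 15, 27, -6, 12, 24, -30, 0, 0, 36, 0],
    [0, -3, 0, -12, -9, 15, -9, -9, 15, -12, -9, -9, -12, 15, 15, -9, 0, 0, 0, 0, 0, 36, 0, 0],
    [0, -3, 0, -12, -9, -3, -9, 9, -3, -12, 9, -9, 6, 15, -3, -9, 18, 0, 0, 18, 0, 0, 0, 0],
    [0, -3, 0, -12, -9, -21, -9, 27, -21, -12, 27, -9, 42, 15, -3, -9, 18, -18, -18, 18, 18, -18, 0, 0],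
    [0, -3, 0, 0, 3, 9, -3, -21, 21, 12, -15, 9, -30, -3, 15, 9, -12, 6, 12, -6, -18, 18, 0, 0],
    [0, -3, 0, 6, -9, -3, 9, 9, -3, -12, 9, -9, 6, -3, -3, 9, 0, 0, 0, 0, 0, 0, 0, 0],
    [0, -3, 0, 0, 3, 9, -3, -3, 3, 12, -15, 9, -12, -3, -3, 9, -12, 6, 12, -6, 0, 0, 0, 0],
    [0, -3, 0, 6, 9, 15, 9, -27, 15, 6, -27, 9, -30, -3, 15, 9, -18, 18, 18, -18, -18, 18, 0, 0],
    [0, -3, 0, 6, 9, -3, 9, -9, -3, 6, -9, 9, -12, -3, -3, 9, 0, 0, 0, 0, 0, 0, 0, 0],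
    [0, -3, 0, 12, -3, 21, 3, -15, 9, 0, -21, 9, -30, -3, 15, 9, -6, 12, 6, -12, -18, 18, 0, 0],
    [0, -3, 0, -12, 9, -3, -9, 9, -3, 6, 9, 9, 6, -3, -3, -9, 0, 0, 0, 0, 0, 0, 0, 0],
    [0, -3, 0, 12, -3, 3, 3, 3, -9, 0, -3, -9, 6, -3, -3, 9, -6, 12, -12, 6, 0, 0, 0, 0],
    [0, -3, 0, -6, -3, -15, 3, 21, -9, 0, 15, -9, 24, -3, -3, -9, 12, -6, -12, 6, 18, -18, 0, 0],
    [0, -3, 0, 0, 3, -9, -3, 15, 3, -6, 3, -9, 6, 15, -3, -9, 6, -12, -6, 12, 0, 0, 0, 0],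
    [0, -3, 0, 0, 3, -9, -3, -3, 3, 12, 3, 9, 6, -3, -3, -9, 6, -12, 12, -6, 0, 0, 0, 0],
    [0, -3, 0, 0, 3, -9, -3, 15, -15, -6, 21, -9, 24, -3, -3, -9, 6, -12, -6, 12, 18, -18, 0, 0],
    [0, -3, 0, -6, -3, 3, 3, 3, 9, 0, -3, 9, 6, -3, -3, -9, -6, -6, 6, 6, 0, 0, 0, 0],
    [0, -3, 0, 0, 3, 9, -3, -3, 3, -6, 3, -9, 6, -3, -3, 9, 6, 6, -6, -6, 0, 0, 0, 0],
    [0, -3, 0, -6, -3, 3, 3, 3, -9, 0, 15, -9, 6, 15, -3, -9, 12, -6, -12, 6, 0, 0, 0, 0],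
    [0, -3, 0, 12, -3, 3, 3, -15, 9, 0, -3, 9, -12, -3, -3, 9, -6, 12, 6, -12, 0, 0, 0, 0]]

/-- The scale. -/
def spanDen : ℤ := 72

end Cfsg.Agent.McLUnitary
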