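/-
The monomial automorphism group of the ternary code of length 12 and the automorphism group of
its hexad system.
-/
import Mathlib
import Cfsg.Agent.Sporadic.TernaryHexads

set_option autoImplicit false
set_option linter.style.longLine false
set_option linter.deprecated false

namespace Cfsg.Agent.Ternary12

open Cfsg
open scoped Pointwise

/-- A monomial map preserves the code. -/
def Preserves (σ : Equiv.Perm ArrayPt) (c : ArrayPt → (ZMod 3)ˣ) : Prop :=
  ∀ x ∈ ternaryGolayCode, monomialMap σ c x ∈ ternaryGolayCode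

theorem monomialMap_mul (σ τ : Equiv.Perm ArrayPt) (c e : ArrayPt → (ZMod 3)ˣ)
    (x : ArrayPt → ZMod 3) :
    monomialMap σ c (monomialMap τ e x) = monomialMap (σ * τ) (fun i => c i * e (σ.symm i)) x := by
  funext i
  simp [monomialMap, mul_assoc, Equiv.Perm.mul_def]

theorem Preserves.mul {σ τ : Equiv.Perm ArrayPt} {c e : ArrayPt → (ZMod 3)ˣ}
    (hc : Preserves σ c) (he : Preserves τ e) :
    Preserves (σ * τ) (fun i => c i * e (σ.symm i)) := fun x hx => by
  rw [← monomialMap_mul]
  exact hc _ (he x hx)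

theorem preserves_one : Preserves 1 1 := fun x hx => by
  convert hx using 1
  funext i
  simp [monomialMap, Equiv.Perm.one_def]

/-- The coordinate permutations occurring in monomial automorphisms. -/
def permPart : Subgroup (Equiv.Perm ArrayPt) where
  carrier := {σ | ∃ c, Preserves σ c}
  one_mem' := ⟨1, preserves_one⟩
  mul_mem' := fun ⟨_, hc⟩ ⟨_, he⟩ => ⟨_, hc.mul he⟩
  inv_mem' := fun {σ} hσ => by
    obtain ⟨c, hc⟩ := hσ
    have hpow : ∀ n : ℕ, ∃ e, Preserves (σ ^ n) e := by
      intro n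
      induction n with
      | zero => exact ⟨1, by rw [pow_zero]; exact preserves_one⟩
      | succ n ih => obtain ⟨e, he⟩ := ih; exact ⟨_, by rw [pow_succ]; exact he.mul hc⟩
    obtain ⟨n, hn⟩ := (isOfFinOrder_of_finite σ).mem_powers_iff_mem_zpowers.2
      (Subgroup.inv_mem _ (Subgroup.mem_zpowers σ))
    obtain ⟨e, he⟩ := hpow n
    simp only at hn
    exact ⟨e, hn ▸ he⟩

theorem scalar_of_preserves_one {c : ArrayPt → (ZMod 3)ˣ} (h : Preserves 1 c) (p q : ArrayPt) :
    c p = c q := by
  classical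
  obtain ⟨s, hs, hs5⟩ := Finset.exists_superset_card_eq (s := ({p, q} : Finset ArrayPt)) (n := 5)
    (le_trans Finset.card_le_two (by norm_num)) (by decide)
  obtain ⟨b, ⟨hb, hsb⟩, -⟩ := hexads_steiner.2 s hs5
  obtain ⟨x, hx, rfl, hc6⟩ := hb
  have hp := hsb (hs (Finset.mem_insert_self p {q}))
  have hq := hsb (hs (Finset.mem_insert_of_mem (Finset.mem_singleton_self q)))
  simp only [ternarySupport, Finset.mem_filter, Finset.mem_univ, true_and] at hp hq
  have hz : monomialMap 1 c x - (c p : ZMod 3) • x ∈ ternaryGolayCode :=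
    Submodule.sub_mem _ (h x hx) (Submodule.smul_mem _ _ hx)
  by_cases h0 : monomialMap 1 c x - (c p : ZMod 3) • x = 0
  · have := congrFun h0 q
    simp only [monomialMap, Pi.sub_apply, Pi.smul_apply, smul_eq_mul, Pi.zero_apply, sub_eq_zero,
      Equiv.Perm.one_symm, Equiv.Perm.coe_one, id] at this
    exact Units.ext (mul_right_cancel₀ hq this).symm
  · exfalso
    have hsub : ternarySupport (monomialMap 1 c x - (c p : ZMod 3) • x) ⊆
        (ternarySupport x).erase p := by
      intro i hi
      simp only [ternarySupport, Finset.mem_filter, Finset.mem_univ, true_and] at hi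
      simp only [monomialMap, Pi.sub_apply, Pi.smul_apply, smul_eq_mul, Equiv.Perm.one_symm,
        Equiv.Perm.coe_one, id] at hi
      refine Finset.mem_erase.2 ⟨fun e => hi (by rw [e, sub_self]), ?_⟩
      simp only [ternarySupport, Finset.mem_filter, Finset.mem_univ, true_and]
      intro e
      exact hi (by rw [e, mul_zero, mul_zero, sub_self])
    have := Finset.card_le_card hsub
    rw [Finset.card_erase_of_mem (by simp [ternarySupport, hp])] at this
    rcases weights hz h0 with h | h | h <;> omega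

theorem ternarySupport_monomialMap (σ : Equiv.Perm ArrayPt) (c : ArrayPt → (ZMod 3)ˣ)
    (x : ArrayPt → ZMod 3) :
    ternarySupport (monomialMap σ c x) = σ • ternarySupport x := by
  ext i
  rw [← Finset.inv_smul_mem_iff]
  simp [ternarySupport, monomialMap]

/-- The automorphism group of the hexad system. -/
abbrev hexAut : Subgroup (Equiv.Perm ArrayPt) := setSystemAut hexads

theorem smul_hexad {σ : Equiv.Perm ArrayPt} (h : σ ∈ hexAut) {b : Finset ArrayPt}
    (hb : b ∈ hexads) : σ • b ∈ hexads := by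
  have := MulAction.mem_stabilizer_iff.1 h
  rw [← this]
  exact Set.smul_mem_smul_set hb

theorem permPart_le_hexAut : permPart ≤ hexAut := by
  rintro σ ⟨c, hc⟩
  rw [MulAction.mem_stabilizer_iff]
  refine Set.eq_of_subset_of_ncard_le ?_ (le_of_eq ?_) (Set.toFinite _)
  · rintro _ ⟨b, ⟨x, hx, rfl, hb6⟩, rfl⟩
    exact ⟨_, hc x hx, ternarySupport_monomialMap σ c x, by simpa using hb6⟩
  · rw [← Set.image_smul, Set.ncard_image_of_injective _ (MulAction.injective σ)]

/-! ### Generators -/

/-- Images of the seven generators. -/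
def genL : Fin 7 → List ℕ := ![[0, 1, 2, 3, 5, 4, 9, 11, 10, 6, 8, 7],
  [0, 1, 2, 3, 6, 9, 5, 8, 11, 4, 7, 10], [0, 1, 2, 3, 7, 11, 10, 5, 6, 8, 9, 4],
  [0, 1, 2, 4, 3, 5, 10, 9, 11, 7, 6, 8], [0, 1, 3, 2, 4, 5, 7, 6, 10, 11, 8, 9],
  [0, 2, 1, 3, 4, 5, 9, 10, 11, 6, 7, 8], [1, 0, 2, 3, 4, 5, 11, 9, 10, 7, 8, 6]]

/-- Preimages of the seven generators. -/
def genInvL : Fin 7 → List ℕ := ![[0, 1, 2, 3, 5, 4, 9, 11, 10, 6, 8, 7],
  [0, 1, 2, 3, 9, 6, 4, 10, 7, 5, 11, 8], [0, 1, 2, 3, 11, 7, 8, 4, 9, 10, 6, 5],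
  [0, 1, 2, 4, 3, 5, 10, 9, 11, 7, 6, 8], [0, 1, 3, 2, 4, 5, 7, 6, 10, 11, 8, 9],
  [0, 2, 1, 3, 4, 5, 9, 10, 11, 6, 7, 8], [1, 0, 2, 3, 4, 5, 11, 9, 10, 7, 8, 6]]

/-- The signs going with the seven generators. -/
def signL : Fin 7 → List ℕ := ![[1, 1, 1, 1, 1, 1, 1, 1, 1, 1, 1, 1],
  [1, 2, 2, 1, 1, 1, 1, 1, 1, 1, 1, 1], [1, 2, 1, 2, 2, 2, 2, 2, 2, 2, 2, 2],
  [1, 1, 1, 1, 1, 1, 1, 1, 1, 1, 1, 1], [1, 1, 2, 2, 1, 1, 2, 2, 1, 2, 1, 2],
  [1, 1, 1, 1, 1, 1, 1, 1, 1, 1, 1, 1], [1, 1, 1, 1, 1, 1, 1, 1, 1, 1, 1, 1]]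

theorem gen_inv₁ : ∀ i p, pPt ((genInvL i).getD (pIdx (pPt ((genL i).getD (pIdx p) 0))) 0) = p := by
  decide +kernel

theorem gen_inv₂ : ∀ i p, pPt ((genL i).getD (pIdx (pPt ((genInvL i).getD (pIdx p) 0))) 0) = p := by
  decide +kernel

/-- The seven generators. -/
def gen (i : Fin 7) : Equiv.Perm ArrayPt where
  toFun p := pPt ((genL i).getD (pIdx p) 0)
  invFun p := pPt ((genInvL i).getD (pIdx p) 0)
  left_inv := gen_inv₁ i
  right_inv := gen_inv₂ i

/-- The signs as units. -/
def genSign (i : Fin 7) : ArrayPt → (ZMod 3)ˣ :=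
  fun p => if (signL i).getD (pIdx p) 0 = 1 then 1 else -1

theorem gen_rows : ∀ i : Fin 7, ∀ j : Fin 6, ∀ p : ArrayPt,
    monomialMap (gen i) (genSign i) (ofList (rowL j)) p =
      lin (fun k => monomialMap (gen i) (genSign i) (ofList (rowL j)) (free k)) p := by
  decide +kernel

theorem gen_mem (i : Fin 7) : gen i ∈ permPart := by
  refine ⟨genSign i, fun x hx => ?_⟩
  have e : monomialMap (gen i) (genSign i) x =
      ∑ j, x (free j) • monomialMap (gen i) (genSign i) (ofList (rowL j)) := by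
    funext p
    rw [Finset.sum_apply]
    conv_lhs => rw [eq_lin hx]
    simp only [monomialMap, lin, Finset.mul_sum, Pi.smul_apply, smul_eq_mul]
    exact Finset.sum_congr rfl fun j _ => mul_left_comm _ _ _
  rw [e]
  exact Submodule.sum_mem _ fun j _ => Submodule.smul_mem _ _ (mem_iff.2 (funext (gen_rows i j)))

/-- Words in the generators forming five transversals. -/
def transL : List (List (List (Fin 7))) :=
  [[[], [6], [5, 6], [4, 5, 6], [3, 4, 5, 6], [0, 3, 4, 5, 6], [1, 3, 4, 5, 6], [2, 3, 4, 5, 6],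
      [1, 2, 3, 4, 5, 6], [1, 0, 3, 4, 5, 6], [2, 1, 3, 4, 5, 6], [2, 0, 3, 4, 5, 6]],
    [[], [5], [4, 5], [3, 4, 5], [0, 3, 4, 5], [1, 3, 4, 5], [2, 3, 4, 5], [1, 2, 3, 4, 5],
      [1, 0, 3, 4, 5], [2, 1, 3, 4, 5], [2, 0, 3, 4, 5]],
    [[], [4], [3, 4], [0, 3, 4], [1, 3, 4], [2, 3, 4], [1, 2, 3, 4], [1, 0, 3, 4], [2, 1, 3, 4],
      [2, 0, 3, 4]],
    [[], [3], [0, 3], [1, 3], [2, 3], [1, 2, 3], [1, 0, 3], [2, 1, 3], [2, 0, 3]],
    [[], [0], [1], [2], [1, 2], [1, 0], [2, 1], [2, 0]]]

/-- The transversal element moving position `l` to position `t`. -/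
def trans (l t : ℕ) : Equiv.Perm ArrayPt := (((transL.getD l []).getD (t - l) []).map gen).prod

theorem trans_mem (l t : ℕ) : trans l t ∈ permPart := by
  refine Subgroup.list_prod_mem _ fun g hg => ?_
  obtain ⟨i, -, rfl⟩ := List.mem_map.1 hg
  exact gen_mem i

theorem trans_spec : ∀ l : Fin 5, ∀ t : Fin 12, (l : ℕ) ≤ t →
    trans l t (pPt l) = pPt t ∧ ∀ m : Fin 5, m < l → trans l t (pPt m) = pPt m := by
  decide +kernel

theorem exists_mem_permPart (e : Fin 5 ↪ ArrayPt) : ∃ h ∈ permPart, ∀ i : Fin 5, h (pPt i) = e i := by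
  suffices ∀ n ≤ 5, ∃ h ∈ permPart, ∀ i : Fin 5, (i : ℕ) < n → h (pPt i) = e i by
    obtain ⟨h, hh, he⟩ := this 5 le_rfl
    exact ⟨h, hh, fun i => he i i.isLt⟩
  intro n
  induction n with
  | zero => exact fun _ => ⟨1, one_mem _, fun i hi => absurd hi (Nat.not_lt_zero _)⟩
  | succ n ih =>
    intro hn
    obtain ⟨h, hh, he⟩ := ih (Nat.le_of_succ_le hn)
    set t := pIdx (h.symm (e ⟨n, hn⟩)) with ht
    have hnt : n ≤ t := by
      by_contra hlt
      rw [not_le] at hlt
      have h1 := he ⟨t, hlt.trans hn⟩ hlt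
      simp only [ht, pPt_pIdx, Equiv.apply_symm_apply] at h1
      have := congrArg Fin.val (e.injective h1)
      simp only at this
      omega
    obtain ⟨h1, h2⟩ := trans_spec ⟨n, hn⟩ ⟨t, pIdx_lt _⟩ hnt
    refine ⟨h * trans n t, mul_mem hh (trans_mem _ _), fun i hi => ?_⟩
    rcases Nat.lt_succ_iff_lt_or_eq.1 hi with hi | hi
    · rw [Equiv.Perm.mul_apply, h2 i hi]
      exact he i hi
    · have : i = ⟨n, hn⟩ := Fin.ext hi
      subst this
      rw [Equiv.Perm.mul_apply, h1]
      show h (pPt t) = _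
      rw [ht, pPt_pIdx, Equiv.apply_symm_apply]

/-! ### Rigidity -/

/-- Bit mask of a set of positions. -/
def maskOf (s : Finset ArrayPt) : ℕ := ∑ p ∈ s, 2 ^ pIdx p

/-- Image of a mask under the map given by a table. -/
def imgMask (t : List ℕ) (b : ℕ) : ℕ :=
  (((List.range 12).filter fun n => b.testBit n).map fun n => 2 ^ t.getD n 0).sum

/-- All lists of `n` different entries of `avail`. -/
def arr : ℕ → List ℕ → List (List ℕ)
  | 0, _ => [[]]
  | n + 1, avail => avail.flatMap fun t => (arr n (avail.erase t)).map (t :: ·)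

theorem mem_arr : ∀ (L : List ℕ) (avail : List ℕ), L.Nodup → (∀ a ∈ L, a ∈ avail) →
    L ∈ arr L.length avail := by
  intro L
  induction L with
  | nil => intro _ _ _; simp [arr]
  | cons a L ih =>
    intro avail hnd hsub
    rw [List.nodup_cons] at hnd
    simp only [arr, List.length_cons, List.mem_flatMap, List.mem_map]
    refine ⟨a, hsub a (List.mem_cons_self ..), L, ih _ hnd.2 (fun b hb => ?_), rfl⟩
    have : b ≠ a := fun e => hnd.1 (e ▸ hb)
    exact (List.mem_erase_of_ne this).2 (hsub b (List.mem_cons_of_mem _ hb))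

theorem rigid_check : ((arr 6 [6, 7, 8, 9, 10, 11]).all fun L =>
    (L == [6, 7, 8, 9, 10, 11]) || blockList.any fun b =>
      !blockList.elem (imgMask ([0, 1, 2, 3, 4, 5] ++ L) b)) = true := by
  decide +kernel

theorem first_block : setOf' 63 ∈ hexads ∧ ∀ p : ArrayPt, p ∈ setOf' 63 ↔ pIdx p < 6 := by
  refine ⟨?_, by decide +kernel⟩
  rw [hexads_eq]
  exact ⟨63, by decide +kernel, rfl⟩

theorem maskOf_blocks : ∀ b ∈ blockList, maskOf (setOf' b) = b := by decide +kernel

theorem rigid {σ : Equiv.Perm ArrayPt} (hσ : σ ∈ hexAut) (hfix : ∀ i : Fin 5, σ (pPt i) = pPt i) :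
    σ = 1 := by
  classical
  obtain ⟨hb, hbmem⟩ := first_block
  let five : Finset ArrayPt := Finset.univ.image fun i : Fin 5 => pPt i.val
  have h5 : five.card = 5 := by
    rw [Finset.card_image_of_injective, Finset.card_univ, Fintype.card_fin]
    intro i j h
    have := congrArg pIdx h
    rw [pIdx_pPt (by omega), pIdx_pPt (by omega)] at this
    exact Fin.ext this
  have hfive : five ⊆ setOf' 63 := by
    intro p hp
    obtain ⟨i, -, rfl⟩ := Finset.mem_image.1 hp
    rw [hbmem, pIdx_pPt (by omega)]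
    omega
  have hb' : σ • setOf' 63 = setOf' 63 := by
    refine (hexads_steiner.2 five h5).unique ⟨smul_hexad hσ hb, fun p hp => ?_⟩ ⟨hb, hfive⟩
    obtain ⟨i, -, rfl⟩ := Finset.mem_image.1 hp
    rw [← hfix i]
    exact Finset.smul_mem_smul_finset (hfive (Finset.mem_image_of_mem _ (Finset.mem_univ _)))
  have hlow : ∀ n < 6, σ (pPt n) = pPt n := by
    intro n hn
    by_cases h : n < 5
    · exact hfix ⟨n, h⟩
    · have hn5 : n = 5 := by omega
      subst hn5
      have hm : σ (pPt 5) ∈ setOf' 63 := by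
        rw [← hb']
        exact Finset.smul_mem_smul_finset ((hbmem _).2 (by decide))
      rw [hbmem] at hm
      rcases lt_or_eq_of_le (Nat.le_of_lt_succ hm) with h' | h'
      · exfalso
        have h2 := hfix ⟨_, h'⟩
        simp only [pPt_pIdx] at h2
        have := σ.injective h2
        rw [this] at h'
        exact absurd h' (by decide)
      · rw [← pPt_pIdx (σ (pPt 5)), h']
  let L := [6, 7, 8, 9, 10, 11].map fun n => pIdx (σ (pPt n))
  have hL : L ∈ arr 6 [6, 7, 8, 9, 10, 11] := by
    refine mem_arr L _ ((List.nodup_map_iff_inj_on (by decide)).2 fun a ha b hb h => ?_) ?_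
    · have h' := σ.injective (pIdx_injective h)
      have ha' : a < 12 := by simp at ha; omega
      have hb' : b < 12 := by simp at hb; omega
      rw [← pIdx_pPt ha', h', pIdx_pPt hb']
    · intro a ha
      obtain ⟨n, hn, rfl⟩ := List.mem_map.1 ha
      have hn' : 6 ≤ n ∧ n < 12 := by simp at hn; omega
      have h1 : 6 ≤ pIdx (σ (pPt n)) := by
        by_contra h
        have h2 := hlow _ (not_le.1 h)
        rw [pPt_pIdx] at h2
        have h3 := congrArg pIdx (σ.injective h2)
        rw [pIdx_pPt hn'.2] at h3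
        omega
      have h2 := pIdx_lt (σ (pPt n))
      simp only [List.mem_cons, List.not_mem_nil, or_false]
      omega
  have hchk := List.all_eq_true.1 rigid_check L hL
  rw [Bool.or_eq_true, beq_iff_eq] at hchk
  set T := [0, 1, 2, 3, 4, 5] ++ L with hT
  have htab : ∀ n < 12, T.getD n 0 = pIdx (σ (pPt n)) := by
    intro n hn
    interval_cases n <;>
      simp [hT, L, hlow, pIdx_pPt]
  rcases hchk with h | h
  · ext1 p
    obtain ⟨n, hn, rfl⟩ : ∃ n < 12, pPt n = p := ⟨pIdx p, pIdx_lt p, pPt_pIdx p⟩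
    rw [Equiv.Perm.one_apply]
    apply pIdx_injective
    rw [← htab n hn, pIdx_pPt hn, hT, h]
    interval_cases n <;> rfl
  · exfalso
    rw [List.any_eq_true] at h
    obtain ⟨b, hb, hbad⟩ := h
    rw [Bool.not_eq_true', List.elem_eq_mem, decide_eq_false_iff_not] at hbad
    have hσb : σ • setOf' b ∈ hexads := smul_hexad hσ (by rw [hexads_eq]; exact ⟨b, hb, rfl⟩)
    rw [hexads_eq] at hσb
    obtain ⟨c, hc, hcb⟩ := hσb
    apply hbad
    have e : maskOf (σ • setOf' b) = imgMask T b := by
      calc maskOf (σ • setOf' b) = ∑ p ∈ setOf' b, 2 ^ pIdx (σ p) := by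
            rw [maskOf, Finset.smul_finset_def,
              Finset.sum_image (g := fun x => σ • x) fun x _ y _ h => σ.injective h]
            rfl
        _ = ∑ n ∈ (Finset.range 12).filter (fun n => b.testBit n = true), 2 ^ T.getD n 0 := by
            refine Finset.sum_nbij pIdx (fun p hp => ?_) (fun p _ q _ h => pIdx_injective h) ?_
              (fun p _ => by rw [htab _ (pIdx_lt p), pPt_pIdx])
            · simp only [setOf', Finset.mem_filter, Finset.mem_univ, true_and] at hp
              simp [pIdx_lt, hp]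
            · intro n hn
              simp only [Finset.coe_filter, Finset.mem_range, Set.mem_ofPred_eq] at hn
              exact ⟨pPt n, by simp [setOf', pIdx_pPt hn.1, hn.2], pIdx_pPt hn.1⟩
        _ = imgMask T b := by
            simp [imgMask, Finset.sum, Finset.filter_val, Finset.range_val, Multiset.range]
    rw [← e, ← hcb, maskOf_blocks c hc]
    exact hc

/-- The five base positions. -/
def base : Fin 5 ↪ ArrayPt :=
  ⟨fun i => pPt i, fun i j h => Fin.ext (by
    have := congrArg pIdx h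
    rwa [pIdx_pPt (by omega), pIdx_pPt (by omega)] at this)⟩

theorem hexAut_le_permPart : hexAut ≤ permPart := by
  intro σ hσ
  obtain ⟨h, hh, he⟩ := exists_mem_permPart (base.trans σ.toEmbedding)
  have : h⁻¹ * σ = 1 := rigid (mul_mem (inv_mem (permPart_le_hexAut hh)) hσ) fun i => by
    have := he i
    simp only [Function.Embedding.trans_apply, Equiv.coe_toEmbedding] at this
    rw [Equiv.Perm.mul_apply, show σ (pPt i) = h (pPt i) from this.symm]
    exact h.symm_apply_apply _
  rwa [← inv_mul_eq_one.1 this]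

theorem permPart_eq : permPart = hexAut := le_antisymm permPart_le_hexAut hexAut_le_permPart

theorem card_hexAut : Nat.card hexAut = 95040 := by
  have h : Function.Bijective fun σ : hexAut => base.trans (σ : Equiv.Perm ArrayPt).toEmbedding := by
    refine ⟨fun σ τ h => ?_, fun e => ?_⟩
    · have : ((τ : Equiv.Perm ArrayPt)⁻¹ * σ) = 1 := rigid (mul_mem (inv_mem τ.2) σ.2) fun i => by
        have := DFunLike.congr_fun h i
        change (σ : Equiv.Perm ArrayPt) (pPt i) = (τ : Equiv.Perm ArrayPt) (pPt i) at this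
        rw [Equiv.Perm.mul_apply, this]
        exact Equiv.symm_apply_apply _ _
      exact Subtype.ext (inv_mul_eq_one.1 this).symm
    · obtain ⟨g, hg, he⟩ := exists_mem_permPart e
      exact ⟨⟨g, permPart_le_hexAut hg⟩, Function.Embedding.ext fun i => he i⟩
  rw [Nat.card_eq_of_bijective _ h, Nat.card_eq_fintype_card, Fintype.card_embedding_eq]
  rfl

theorem card_monomial :
    Nat.card {f : Equiv.Perm ArrayPt × (ArrayPt → (ZMod 3)ˣ) //
      ∀ x ∈ ternaryGolayCode, monomialMap f.1 f.2 x ∈ ternaryGolayCode} = 190080 := by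
  classical
  choose e he using fun σ : permPart => σ.2
  let F : permPart × (ZMod 3)ˣ → {f : Equiv.Perm ArrayPt × (ArrayPt → (ZMod 3)ˣ) //
      ∀ x ∈ ternaryGolayCode, monomialMap f.1 f.2 x ∈ ternaryGolayCode} := fun a =>
    ⟨((a.1 : Equiv.Perm ArrayPt), fun i => a.2 * e a.1 i), fun x hx => by
      have hm : monomialMap (a.1 : Equiv.Perm ArrayPt) (fun i => a.2 * e a.1 i) x =
          (a.2 : ZMod 3) • monomialMap (a.1 : Equiv.Perm ArrayPt) (e a.1) x := by
        funext i
        simp [monomialMap, mul_assoc]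
      rw [hm]
      exact Submodule.smul_mem _ _ (he a.1 x hx)⟩
  have hF : Function.Bijective F := by
    refine ⟨fun a b h => ?_, fun f => ?_⟩
    · have h' := congrArg Subtype.val h
      simp only [F, Prod.mk.injEq] at h'
      have h1 : a.1 = b.1 := Subtype.ext h'.1
      refine Prod.ext h1 ?_
      have h2 := congrFun h'.2 (0, 0)
      simp only [← h1] at h2
      exact mul_right_cancel h2
    · let σ : permPart := ⟨f.1.1, f.1.2, f.2⟩
      let d : ArrayPt → (ZMod 3)ˣ := fun i => f.1.2 i * (e σ i)⁻¹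
      have hd : Preserves 1 d := by
        intro x hx
        obtain ⟨y, hy, rfl⟩ : ∃ y ∈ ternaryGolayCode, monomialMap f.1.1 (e σ) y = x := by
          let g : ternaryGolayCode → ternaryGolayCode := fun y =>
            ⟨monomialMap f.1.1 (e σ) y, he σ y y.2⟩
          have hg : Function.Injective g := by
            intro y z h
            have h' := congrArg Subtype.val h
            refine Subtype.ext (funext fun i => ?_)
            have := congrFun h' (f.1.1 i)
            simpa [g, monomialMap] using this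
          obtain ⟨y, hy⟩ := Finite.surjective_of_injective hg ⟨x, hx⟩
          exact ⟨y, y.2, congrArg Subtype.val hy⟩
        have hm : monomialMap 1 d (monomialMap f.1.1 (e σ) y) = monomialMap f.1.1 f.1.2 y := by
          rw [monomialMap_mul, one_mul]
          congr 1
          funext i
          simp [d, Equiv.Perm.one_def]
        rw [hm]
        exact f.2 y hy
      refine ⟨(σ, d (0, 0)), Subtype.ext (Prod.ext rfl (funext fun i => ?_))⟩
      show d (0, 0) * e σ i = f.1.2 i
      rw [scalar_of_preserves_one hd (0, 0) i]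
      simp [d]
  rw [← Nat.card_eq_of_bijective F hF, Nat.card_prod, permPart_eq, card_hexAut,
    Nat.card_eq_fintype_card, ZMod.card_units]

end Cfsg.Agent.Ternary12
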